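import Mathlib
import Cfsg.Agent.Lib.Syl2.GLWr
import Cfsg.Agent.Lib.Sp.Order

/-!
# Sylow `2`-subgroups of symplectic and linear groups in odd characteristic
-/

set_option autoImplicit false

namespace H82

open Subgroup H61 Equiv Matrix
open scoped MatrixGroups commutatorElement

theorem ea_quaternion {n : ℕ} (hn : Even n) : EA 2 (⊤ : Subgroup (QuaternionGroup n)) := by
  have h : ∀ i, (QuaternionGroup.a i : QuaternionGroup n) ^ 2 ∈
      ⁅(⊤ : Subgroup (QuaternionGroup n)), (⊤ : Subgroup (QuaternionGroup n))⁆ := by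
    intro i
    have : (QuaternionGroup.a i : QuaternionGroup n) ^ 2 =
        ⁅(QuaternionGroup.a i : QuaternionGroup n), QuaternionGroup.xa 0⁆ := by
      rw [commutatorElement_def, eq_mul_inv_iff_mul_eq, eq_mul_inv_iff_mul_eq]
      simp [pow_two]
    rw [this]
    exact commutator_mem_commutator trivial trivial
  rintro (i | i) -
  · exact h i
  · obtain ⟨m, rfl⟩ := hn
    have := h m
    rw [QuaternionGroup.xa_sq]
    simpa [pow_two] using this

variable {F : Type*} [Field F]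

theorem ea_sylow_SL2 [Finite F] (hq : Odd (Nat.card F)) {Q : Subgroup SL(2, F)}
    (hQ : SylIn 2 Q ⊤) : EA 2 Q := by
  obtain ⟨P, rfl⟩ := hQ.exists_sylow_top
  obtain ⟨k, hk, -, -, h, -⟩ := H10.exists_sylow_two_SL_two hq
  obtain ⟨e⟩ := h P
  have h1 := (ea_quaternion (n := 2 ^ k) (Nat.even_pow.2 ⟨even_two, by omega⟩)).map
    ((P : Subgroup SL(2, F)).subtype.comp e.symm.toMonoidHom)
  rwa [← Subgroup.map_map, map_top_of_surjective _ e.symm.surjective, ← MonoidHom.range_eq_map,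
    range_subtype] at h1

theorem v2_card_SL2 [Finite F] (hq : Odd (Nat.card F)) :
    padicValNat 2 (Nat.card SL(2, F)) = padicValNat 2 (Nat.card F ^ 2 - 1) := by
  have h1 : 1 < Nat.card F := Finite.one_lt_card
  have h2 : Nat.card F ^ 2 - 1 = (Nat.card F - 1) * (Nat.card F + 1) := by
    rw [mul_comm]; simpa using Nat.sq_sub_sq (Nat.card F) 1
  rw [H10.card_SL_two, mul_assoc, ← h2, v2_odd_mul hq (pow_sub_one_ne_zero h1 two_ne_zero)]

/-- hyperbolic pairs as blocks -/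
def spE (n : ℕ) : Fin 2 × Fin n ⊕ Empty ≃ Fin n ⊕ Fin n where
  toFun := Sum.elim (fun x => if x.1 = 0 then .inl x.2 else .inr x.2) Empty.elim
  invFun := Sum.elim (fun i => .inl (0, i)) fun i => .inl (1, i)
  left_inv := by
    rintro (⟨a, i⟩ | a)
    · fin_cases a <;> rfl
    · exact a.elim
  right_inv := by rintro (i | i) <;> rfl

theorem spE_zero {n : ℕ} (i : Fin n) : spE n (.inl (0, i)) = .inl i := rfl

theorem spE_one {n : ℕ} (i : Fin n) : spE n (.inl (1, i)) = .inr i := rfl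

/-- the inclusion of `Sp` in `GL` -/
def spToGL (n : ℕ) (F : Type*) [Field F] :
    symplecticGroup (Fin n) F →* GL (Fin n ⊕ Fin n) F :=
  (symplecticGroup (Fin n) F).subtype.toHomUnits

theorem spToGL_val {n : ℕ} (g : symplecticGroup (Fin n) F) : (spToGL n F g).val = g.val := rfl

theorem spToGL_injective (n : ℕ) : Function.Injective (spToGL n F) := fun _ _ h =>
  Subtype.ext (congrArg Units.val h)

theorem mem_range_spToGL {n : ℕ} {g : GL (Fin n ⊕ Fin n) F}
    (h : g.val ∈ symplecticGroup (Fin n) F) : g ∈ (spToGL n F).range := ⟨⟨_, h⟩, Units.ext rfl⟩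

/-- `SL₂ ≀ Sym n` in `Sp₂ₙ` -/
noncomputable def spWr (n : ℕ) (F : Type*) [Field F] :
    Wr (symplecticGroup (Fin n) F) SL(2, F) Unit (Fin n) :=
  (glWr F (spE n)).pull (spToGL n F) (spToGL_injective n) SpecialLinearGroup.toGL
    SpecialLinearGroup.toGL_injective 1 (fun _ _ _ => rfl)
    (fun f c => mem_range_spToGL (H11.Sp.mem_iff_form.2 fun u v => by
      rw [H11.Sp.form_eq_sum, H11.Sp.form_eq_sum]
      refine Finset.sum_congr rfl fun i _ => ?_
      have hd := (f i).det_coe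
      rw [det_fin_two] at hd
      rw [glWr_Phi_val, ← spE_zero, ← spE_one]
      simp only [blk_mulVec_inl]
      simp only [mulVec, dotProduct, Fin.sum_univ_two, spE_zero, spE_one,
        SpecialLinearGroup.coe_GL_coe_matrix]
      linear_combination (u (.inr i) * v (.inl i) - u (.inl i) * v (.inr i)) * hd))
    (fun σ => mem_range_spToGL (H11.Sp.mem_iff_form.2 fun u v => by
      rw [H11.Sp.form_eq_sum, H11.Sp.form_eq_sum, glWr_tau_mulVec, glWr_tau_mulVec]
      refine Fintype.sum_equiv σ⁻¹ _ _ fun i => ?_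
      simp only [Function.comp, ← spE_zero, ← spE_one, blkPerm_inl]))

theorem sylIn_spWr [Finite F] (hq : Odd (Nat.card F)) {n : ℕ} {Q : Subgroup SL(2, F)}
    (hQ : SylIn 2 Q ⊤) {T : Subgroup (Perm (Fin n))} (hT : SylIn 2 T ⊤) :
    SylIn 2 ((spWr n F).sub Q ⊥ T) ⊤ := by
  have h1 : 1 < Nat.card F := Finite.one_lt_card
  refine Wr.sylIn _ hQ.pgrp IsPGroup.of_bot hT.pgrp ?_
  rw [H11.Sp.card_G, v2_odd_mul hq.pow (prod_even_ne_zero h1 n), v2_prod_even hq h1,
    sylIn_top_card hQ, card_sylow_perm hT, v2_card_SL2 hq]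
  simp [pow_add, pow_mul]

theorem ea_sylow_Sp [Finite F] (hq : Odd (Nat.card F)) {n : ℕ}
    (P : Sylow 2 (symplecticGroup (Fin n) F)) :
    EA 2 (P : Subgroup (symplecticGroup (Fin n) F)) := by
  obtain ⟨Q⟩ : Nonempty (Sylow 2 SL(2, F)) := inferInstance
  obtain ⟨T⟩ : Nonempty (Sylow 2 (Perm (Fin n))) := inferInstance
  exact (Wr.ea_sub _ (ea_sylow_SL2 hq (SylIn.of_sylow_top Q)) EA.bot
    (ea_sylow_perm (SylIn.of_sylow_top T))).sylow_of_top
    (sylIn_spWr hq (SylIn.of_sylow_top Q) (SylIn.of_sylow_top T)) P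

section general

variable {ι κ J : Type*} [Fintype ι] [Fintype κ] [Fintype J]
  [DecidableEq ι] [DecidableEq κ] [DecidableEq J]

theorem sylIn_glWr [Finite F] (hq : Odd (Nat.card F)) (e : Fin 2 × ι ⊕ κ ≃ J)
    (hκ : Fintype.card κ ≤ 1) {D : Subgroup (GL (Fin 2) F)} (hD : SylIn 2 D ⊤)
    {C : Subgroup (GL κ F)} (hC : SylIn 2 C ⊤) {T : Subgroup (Perm ι)} (hT : SylIn 2 T ⊤) :
    SylIn 2 ((glWr F e).sub D C T) ⊤ := by
  refine Wr.sylIn _ hD.pgrp hC.pgrp hT.pgrp ?_
  have hJ : Fintype.card J = 2 * Fintype.card ι + Fintype.card κ := by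
    rw [← Fintype.card_congr e]; simp
  rw [sylIn_top_card hD, sylIn_top_card hC, card_sylow_perm hT, v2_card_GL hq, v2_card_GL hq,
    v2_card_GL hq, hJ, ← pow_mul, ← pow_add, ← pow_add, Nat.card_eq_fintype_card (α := ι),
    show (2 * Fintype.card ι + Fintype.card κ) / 2 = Fintype.card ι by omega,
    show (2 * Fintype.card ι + Fintype.card κ + 1) / 2 = Fintype.card ι + Fintype.card κ by omega,
    show Fintype.card κ / 2 = 0 by omega, show (Fintype.card κ + 1) / 2 = Fintype.card κ by omega]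
  apply le_of_eq
  congr 1
  simp
  ring

/-- the special linear group inside the general linear group -/
abbrev slK (J F : Type*) [Fintype J] [DecidableEq J] [Field F] : Subgroup (GL J F) :=
  (GeneralLinearGroup.det : GL J F →* Fˣ).ker

theorem range_toGL : (SpecialLinearGroup.toGL : SpecialLinearGroup J F →* GL J F).range = slK J F := by
  ext g
  constructor
  · rintro ⟨a, rfl⟩
    exact SpecialLinearGroup.coeToGL_det a
  · intro h
    exact ⟨⟨g.val, congrArg Units.val h⟩, Units.ext rfl⟩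

theorem ea_SL_of [Finite F] {W : Subgroup (GL J F)} (hW : SylIn 2 W ⊤) (h : EA 2 (W ⊓ slK J F))
    (P : Sylow 2 (SpecialLinearGroup J F)) : EA 2 (P : Subgroup (SpecialLinearGroup J F)) := by
  have h1 := (SylIn.of_sylow_top P).map_of_injective _ SpecialLinearGroup.toGL_injective
  rw [← MonoidHom.range_eq_map, range_toGL] at h1
  exact EA.of_map _ SpecialLinearGroup.toGL_injective
    (h.sylIn (sylIn_inf_normal hW _) h1)

theorem ea_inf_slK_two [Finite F] (hq : Odd (Nat.card F)) {D : Subgroup (GL (Fin 2) F)}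
    (hD : SylIn 2 D ⊤) : EA 2 (D ⊓ slK (Fin 2) F) := by
  obtain ⟨P⟩ : Nonempty (Sylow 2 SL(2, F)) := inferInstance
  have h1 := (SylIn.of_sylow_top P).map_of_injective _ SpecialLinearGroup.toGL_injective
  rw [← MonoidHom.range_eq_map, range_toGL] at h1
  exact ((ea_sylow_SL2 hq (SylIn.of_sylow_top P)).map _).sylIn h1 (sylIn_inf_normal hD _)

/-- A Sylow `2`-subgroup of `GL₂` with a complement to its intersection with `SL₂`. -/
theorem exists_sylow_GL2 [Finite F] : ∃ (D : Subgroup (GL (Fin 2) F)) (g : GL (Fin 2) F),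
    SylIn 2 D ⊤ ∧ g ∈ D ∧ (∀ u : Fˣ, (∃ k, u ^ 2 ^ k = 1) →
      u ∈ zpowers (GeneralLinearGroup.det g)) ∧
    orderOf g = 2 ^ padicValNat 2 (Nat.card F - 1) ∧
    orderOf (GeneralLinearGroup.det g) = 2 ^ padicValNat 2 (Nat.card F - 1) := by
  obtain ⟨S⟩ : Nonempty (Sylow 2 Fˣ) := inferInstance
  obtain ⟨c, hc⟩ := IsCyclic.exists_generator (α := (S : Subgroup Fˣ))
  have hc1 : orderOf (c : Fˣ) = 2 ^ padicValNat 2 (Nat.card F - 1) := by
    rw [orderOf_coe, orderOf_eq_card_of_forall_mem_zpowers hc,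
      sylIn_top_card (SylIn.of_sylow_top S), Nat.card_units]
  let δ : Fˣ →* GL (Fin 2) F := H10.diagGL.comp (MonoidHom.mulSingle (fun _ : Fin 2 => Fˣ) 0)
  have hδ : ∀ u, GeneralLinearGroup.det (δ u) = u := fun u => by
    apply Units.ext
    simp [δ]
  have hδi : Function.Injective δ := fun a b h => by rw [← hδ a, h, hδ]
  obtain ⟨D, hD, hle⟩ := SylIn.exists_le (p := 2) (S.isPGroup'.map δ) le_top
  refine ⟨D, δ c, hD, hle (mem_map_of_mem _ c.2), fun u ⟨k, hk⟩ => ?_,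
    by rw [orderOf_injective δ hδi, hc1], by rw [hδ, hc1]⟩
  obtain ⟨g, -, hg⟩ := (SylIn.of_sylow_top S).exists_conj_mem (mem_top u) hk
  rw [mul_inv_cancel_comm] at hg
  obtain ⟨n, hn⟩ := hc ⟨u, hg⟩
  rw [hδ]
  exact ⟨n, congrArg Subtype.val hn⟩

theorem ea_inf_slK [Finite F] (hq : Odd (Nat.card F)) (e : Fin 2 × ι ⊕ κ ≃ J) (i₀ : ι)
    (hκ : Fintype.card κ ≤ 1) {T : Subgroup (Perm ι)} (hT : SylIn 2 T ⊤)
    (h : Nat.card F % 4 = 3 ∨ (IsEmpty κ ∧ ∀ i, ∃ t ∈ T, t i₀ = i))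
    (P : Sylow 2 (SpecialLinearGroup J F)) : EA 2 (P : Subgroup (SpecialLinearGroup J F)) := by
  obtain ⟨D, g, hD, hg, hdet, ho, ho'⟩ := exists_sylow_GL2 (F := F)
  obtain ⟨C, hC⟩ := SylIn.exists_sylIn (p := 2) (⊤ : Subgroup (GL κ F))
  refine ea_SL_of (sylIn_glWr hq e hκ hD hC hT) ?_ P
  set w := glWr F e
  set E := eaCore 2 (w.sub D C T ⊓ slK J F) with hE
  have hτ : ∀ σ ∈ T, w.τ σ ∈ E := fun σ hσ => by
    refine ((ea_sylow_perm hT).map w.τ).le_eaCore ?_ (mem_map_of_mem _ hσ)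
    rintro _ ⟨s, hs, rfl⟩
    exact mem_inf.2 ⟨w.tau_mem hs, det_glWr_tau e (by simp) s⟩
  have hQ : ∀ i, ∀ d ∈ D ⊓ slK (Fin 2) F, w.φ i d ∈ E := fun i d hd => by
    refine ((ea_inf_slK_two hq hD).map (w.φ i)).le_eaCore ?_ (mem_map_of_mem _ hd)
    rintro _ ⟨s, hs, rfl⟩
    exact mem_inf.2 ⟨w.φ_mem i hs.1, (det_glWr_φ e i s).trans hs.2⟩
  have h3 : Nat.card F % 4 = 3 → padicValNat 2 (Nat.card F - 1) = 1 := fun h => by
    rw [show Nat.card F - 1 = (2 * (Nat.card F / 4) + 1) * 2 by omega,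
      v2_odd_mul ⟨_, rfl⟩ two_ne_zero]
    simp
  have hg' : ∀ i, w.φ i g ∈ zpowers (w.φ i₀ g) ⊔ E := fun i => by
    by_cases hi : i = i₀
    · exact hi ▸ mem_sup_left (mem_zpowers _)
    rw [← inv_mul_cancel_right (w.φ i g) (w.φ i₀ g)]
    refine mul_mem (mem_sup_right ?_) (mem_sup_left (mem_zpowers _))
    rcases h with h | ⟨-, h⟩
    · refine mem_eaCore_of_pow (mem_inf.2 ⟨mul_mem (w.φ_mem _ hg) (inv_mem (w.φ_mem _ hg)), ?_⟩) ?_
      · rw [MonoidHom.mem_ker, map_mul, map_inv, det_glWr_φ, det_glWr_φ, mul_inv_cancel]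
      · have : g ^ 2 = 1 := by
          have := pow_orderOf_eq_one g
          rwa [ho, h3 h] at this
        rw [(w.φ_comm hi g g).inv_right.mul_pow, inv_pow, ← map_pow, ← map_pow, this]
        simp
    · obtain ⟨t, ht, rfl⟩ := h i
      rw [← w.tau_φ, mul_assoc, mul_assoc, ← mul_assoc (w.φ i₀ g)]
      exact mul_mem (hτ t ht) (conj_mem_eaCore_inf (w.φ_mem _ hg) (inv_mem (hτ t ht)))
  refine EA.inf_of_le_sup (R := zpowers (w.φ i₀ g)) (zpowers_le.2 (w.φ_mem _ hg)) ?_ ?_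
  · rintro _ ⟨n, rfl⟩ hn
    rw [MonoidHom.mem_ker, map_zpow, det_glWr_φ, ← orderOf_dvd_iff_zpow_eq_one, ho', ← ho,
      orderOf_dvd_iff_zpow_eq_one] at hn
    simp only [← map_zpow, hn, map_one]
    exact one_mem _
  · refine w.sub_le (fun i d hd => ?_) (fun c hc => ?_) fun σ hσ => mem_sup_right (hτ σ hσ)
    · obtain ⟨k, hk⟩ := hD.pgrp ⟨d, hd⟩
      obtain ⟨n, hn⟩ := hdet (GeneralLinearGroup.det d) ⟨k, by
        rw [← map_pow, show d ^ 2 ^ k = 1 from congrArg Subtype.val hk, map_one]⟩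
      rw [← mul_inv_cancel_left (g ^ n) d, map_mul, map_zpow]
      refine mul_mem (zpow_mem (hg' i) n) (mem_sup_right (hQ i _ (mem_inf.2 ⟨?_, ?_⟩)))
      · exact mul_mem (inv_mem (zpow_mem hg n)) hd
      · rw [MonoidHom.mem_ker, map_mul, map_inv, map_zpow, ← hn, inv_mul_cancel]
    · rcases h with h | ⟨h, -⟩
      · have g2 : g ^ 2 = 1 := by
          have := pow_orderOf_eq_one g
          rwa [ho, h3 h] at this
        have c2 : c ^ 2 = 1 := by
          have h4 := sylIn_top_card hC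
          rw [v2_card_GL hq, show Fintype.card κ / 2 = 0 by omega, h3 h] at h4
          have h5 : Nat.card C ∣ 2 := by
            rw [h4]
            interval_cases Fintype.card κ <;> simp
          exact orderOf_dvd_iff_pow_eq_one.1 ((C.orderOf_dvd_natCard hc).trans h5)
        obtain ⟨n, hn⟩ := hdet (GeneralLinearGroup.det c) ⟨1, by rw [← map_pow, pow_one, c2, map_one]⟩
        rw [← mul_inv_cancel_left (w.φ i₀ g ^ n) (w.ψ c)]
        refine mul_mem (mem_sup_left (zpow_mem (mem_zpowers _) n))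
          (mem_sup_right (mem_eaCore_of_pow (mem_inf.2 ⟨?_, ?_⟩) ?_))
        · exact mul_mem (inv_mem (zpow_mem (w.φ_mem _ hg) n)) (w.ψ_mem hc)
        · rw [MonoidHom.mem_ker, map_mul, map_inv, map_zpow, det_glWr_φ, det_glWr_ψ, ← hn,
            inv_mul_cancel]
        · rw [((w.φ_ψ_comm i₀ g c).zpow_left n).inv_left.mul_pow, inv_pow, ← zpow_natCast,
            ← _root_.zpow_mul, mul_comm n, _root_.zpow_mul, zpow_natCast, ← map_pow, ← map_pow, g2, c2]
          simp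
      · rw [Subsingleton.elim c 1, map_one]
        exact one_mem _

theorem exists_of_sylow_perm_two_pow {T : Subgroup (Perm ι)} (hT : SylIn 2 T ⊤) {j : ℕ}
    (hj : Fintype.card ι = 2 ^ j) (i₀ i : ι) : ∃ t ∈ T, t i₀ = i := by
  have h1 : MulAction.orbit (⊤ : Subgroup (Perm ι)) i₀ = Set.univ := by
    refine Set.eq_univ_of_forall fun a => mem_orbit_subgroup.2 ⟨swap i₀ a, trivial, ?_⟩
    simp
  have h2 := hT.orbit_eq i₀ (k := j) (by rw [h1, Set.ncard_univ, Nat.card_eq_fintype_card, hj])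
  rw [h1] at h2
  exact mem_orbit_subgroup.1 (h2 ▸ Set.mem_univ i)

end general

end H82
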