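import Mathlib
import Cfsg.Agent.Base
import Cfsg.Agent.Lib.Syl2.Lin

/-!
# Normal elementary abelian subgroups of Sylow `2`-subgroups of linear and symplectic groups
-/

set_option autoImplicit false

namespace H82

open Subgroup H61 Equiv Matrix
open scoped MatrixGroups

variable {G D C ι : Type*} [Group G] [Group D] [Group C]

/-- `Z` is the largest normal subgroup of exponent `2` of `W`. -/
structure MaxNE (W Z : Subgroup G) : Prop where
  le : Z ≤ W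
  conj : ∀ g ∈ W, ∀ z ∈ Z, g * z * g⁻¹ ∈ Z
  sq : ∀ z ∈ Z, z ^ 2 = 1
  max : ∀ N ≤ W, (∀ g ∈ W, ∀ z ∈ N, g * z * g⁻¹ ∈ N) → (∀ z ∈ N, z ^ 2 = 1) → N ≤ Z

theorem Wr.card_base (w : Wr G D C ι) [Finite ι] (D' : Subgroup D) (C' : Subgroup C) :
    Nat.card (w.base D' C') = Nat.card D' ^ Nat.card ι * Nat.card C' := by
  have := w.card_sub (D' := D') (C' := C') (T := ⊥)
  rwa [Wr.sub, Subgroup.map_bot, sup_bot_eq, card_bot, mul_one] at this

theorem Wr.le_base [DecidableEq ι] (w : Wr G D C ι) {D' : Subgroup D} {C' : Subgroup C}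
    {T : Subgroup (Perm ι)} {n : ℕ} (hd : ∃ d ∈ D', d ^ n ≠ 1) {N : Subgroup G}
    (hN : N ≤ w.sub D' C' T) (h1 : ∀ g ∈ w.sub D' C' T, ∀ z ∈ N, g * z * g⁻¹ ∈ N)
    (h2 : ∀ z ∈ N, z ^ n = 1) : N ≤ w.base D' C' := by
  intro x hx
  obtain ⟨f, c, σ, hf, hc, hσ, rfl⟩ := w.mem_sub.1 (hN hx)
  obtain ⟨d, hd, hd2⟩ := hd
  suffices σ = 1 by
    rw [this, map_one, mul_one]
    exact w.mem_base.2 ⟨f, c, hf, hc, rfl⟩
  ext i
  by_contra hi
  have h3 := h2 _ (mul_mem (h1 _ (w.φ_mem i hd) _ hx) (inv_mem hx))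
  have h4 : w.φ i d * (w.Φ (f, c) * w.τ σ) * (w.φ i d)⁻¹ * (w.Φ (f, c) * w.τ σ)⁻¹ =
      w.Φ ((Pi.mulSingle i d, 1) * (f, c) * (Pi.mulSingle (σ i) d⁻¹, 1) * (f, c)⁻¹) := by
    rw [map_mul, map_mul, map_mul, map_inv, ← w.φ_apply, ← w.φ_apply, ← w.tau_φ, map_inv]
    group
  rw [h4, ← map_pow, ← map_one w.Φ] at h3
  have h5 := congrFun (congrArg Prod.fst (w.Phi_injective h3)) i
  have h6 : i ≠ σ i := fun h => hi h.symm
  simp [h6] at h5
  exact hd2 h5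

theorem Wr.maxNE [DecidableEq ι] (w : Wr G D C ι) {D' Z : Subgroup D} {C' : Subgroup C}
    {T : Subgroup (Perm ι)} (hd : ∃ d ∈ D', d ^ 2 ≠ 1) (hZ : MaxNE D' Z)
    (hC : ∀ c ∈ C', c ^ 2 = 1) : MaxNE (w.sub D' C' T) (w.base Z C') := by
  refine ⟨fun x hx => ?_, fun g hg x hx => ?_, fun x hx => ?_, fun N hN h1 h2 x hx => ?_⟩
  · obtain ⟨f, c, hf, hc, rfl⟩ := w.mem_base.1 hx
    exact w.Phi_mem (fun i => hZ.le (hf i)) hc
  · obtain ⟨f, c, hf, hc, rfl⟩ := w.mem_base.1 hx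
    obtain ⟨f', c', σ, hf', hc', -, rfl⟩ := w.mem_sub.1 hg
    refine w.mem_base.2 ⟨fun i => f' i * f (σ⁻¹ i) * (f' i)⁻¹, c' * c * c'⁻¹,
      fun i => hZ.conj _ (hf' i) _ (hf _), mul_mem (mul_mem hc' hc) (inv_mem hc'), ?_⟩
    rw [show w.Φ (f', c') * w.τ σ * w.Φ (f, c) * (w.Φ (f', c') * w.τ σ)⁻¹ =
      w.Φ (f', c') * (w.τ σ * w.Φ (f, c) * (w.τ σ)⁻¹) * (w.Φ (f', c'))⁻¹ by group,
      w.conj', ← map_inv, ← map_mul, ← map_mul]
    rfl
  · obtain ⟨f, c, hf, hc, rfl⟩ := w.mem_base.1 hx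
    rw [← map_pow, ← map_one w.Φ]
    exact congrArg _ (Prod.ext (funext fun i => hZ.sq _ (hf i)) (hC c hc))
  · have hb := w.le_base hd hN h1 h2
    obtain ⟨f, c, hf, hc, rfl⟩ := w.mem_base.1 (hb hx)
    refine w.mem_base.2 ⟨f, c, fun i => hZ.max ((N.comap w.Φ).map
      ((Pi.evalMonoidHom (fun _ => D) i).comp (MonoidHom.fst _ _))) ?_ ?_ ?_ ⟨(f, c), hx, rfl⟩,
      hc, rfl⟩
    · rintro _ ⟨y, hy, rfl⟩
      obtain ⟨f', c', hf', -, e⟩ := w.mem_base.1 (hb hy)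
      rw [← w.Phi_injective e]
      exact hf' i
    · rintro d hd _ ⟨y, hy, rfl⟩
      refine ⟨(Pi.mulSingle i d, 1) * y * (Pi.mulSingle i d, 1)⁻¹, ?_, by simp⟩
      rw [SetLike.mem_coe, mem_comap, map_mul, map_mul, map_inv]
      exact h1 _ (w.φ_mem i hd) _ hy
    · rintro _ ⟨y, hy, rfl⟩
      rw [← map_pow, w.Phi_injective (((map_pow _ _ _).trans (h2 _ hy)).trans (map_one _).symm),
        map_one]

theorem MaxNE.map {G' : Type*} [Group G'] {W Z : Subgroup G} (h : MaxNE W Z) (f : G →* G')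
    (hf : Function.Injective f) : MaxNE (W.map f) (Z.map f) := by
  refine ⟨map_mono h.le, ?_, ?_, fun N hN h1 h2 x hx => ?_⟩
  · rintro _ ⟨g, hg, rfl⟩ _ ⟨z, hz, rfl⟩
    exact ⟨_, h.conj g hg z hz, by simp⟩
  · rintro _ ⟨z, hz, rfl⟩
    rw [← map_pow, h.sq z hz, map_one]
  · obtain ⟨y, -, rfl⟩ := hN hx
    refine mem_map_of_mem f (h.max (N.comap f) (fun z hz => (mem_map_iff_mem hf).1 (hN hz))
      (fun g hg z hz => ?_) (fun z hz => hf (by rw [map_pow, h2 _ hz, map_one])) hx)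
    rw [mem_comap, map_mul, map_mul, map_inv]
    exact h1 _ (mem_map_of_mem f hg) _ hz

theorem MaxNE.result [Finite G] {W Z : Subgroup G} (h : MaxNE W Z) (hW : SylIn 2 W ⊤) {n : ℕ}
    (hn : Nat.card Z = 2 ^ n) (S : Sylow 2 G) :
    (∃ E : Subgroup (S : Subgroup G), E.Normal ∧ Cfsg.IsElementaryAbelian 2 E ∧
      2 ^ n ≤ Nat.card E) ∧ ∀ E : Subgroup (S : Subgroup G), E.Normal →
        Cfsg.IsElementaryAbelian 2 E → Nat.card E ≤ 2 ^ n := by
  obtain ⟨k, -, e⟩ := (SylIn.of_sylow_top S).exists_conj_eq hW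
  have h1 := h.map (MulAut.conj k).toMonoidHom (MulAut.conj k).injective
  rw [← card_map_of_injective (f := (MulAut.conj k).toMonoidHom) (MulAut.conj k).injective] at hn
  rw [e] at h1
  generalize Z.map (MulAut.conj k).toMonoidHom = Y at h1 hn
  constructor
  · refine ⟨Y.subgroupOf S, ⟨fun z hz g => h1.conj g g.2 z hz⟩,
      ⟨⟨⟨fun a b => ?_⟩⟩, fun a ha => Subtype.ext (h1.sq a ha)⟩, ?_⟩
    · have h2 : ∀ a : Y.subgroupOf S, a⁻¹ = a := fun a => inv_eq_of_mul_eq_one_right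
        (Subtype.ext (Subtype.ext ((pow_two _).symm.trans (h1.sq _ a.2))))
      rw [← h2 (a * b), _root_.mul_inv_rev, h2, h2]
    · rw [Nat.card_congr (subgroupOfEquivOfLe h1.le).toEquiv, hn]
  · intro E hE hE'
    rw [← hn, ← card_map_of_injective (S : Subgroup G).subtype_injective]
    refine card_le_of_le (h1.max _ (map_subtype_le E) ?_ ?_)
    · rintro g hg _ ⟨z, hz, rfl⟩
      exact ⟨_, hE.conj_mem z hz ⟨g, hg⟩, rfl⟩
    · rintro _ ⟨z, hz, rfl⟩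
      exact congrArg Subtype.val (hE'.2 z hz)

theorem mem_of_central [Finite G] {P : Subgroup G} (hP : SylIn 2 P ⊤) {z : G} (hz : z ∈ center G)
    {k : ℕ} (h : z ^ 2 ^ k = 1) : z ∈ P := by
  obtain ⟨a, -, ha⟩ := hP.exists_conj_mem (mem_top z) h
  rwa [mem_center_iff.1 hz a, mul_inv_cancel_right] at ha

theorem maxNE_of_central [Finite G] {P : Subgroup G} (hP : SylIn 2 P ⊤) {z : G} (hz : z ∈ center G)
    (h : z ^ 2 = 1) (h1 : ∀ N ≤ P, (∀ g ∈ P, ∀ z ∈ N, g * z * g⁻¹ ∈ N) → (∀ z ∈ N, z ^ 2 = 1) →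
      ∀ x ∈ N, x = 1 ∨ x = z) : MaxNE P (zpowers z) := by
  refine ⟨zpowers_le.2 (mem_of_central hP hz (k := 1) h), fun g _ x hx => ?_, ?_,
    fun N hN h2 h3 x hx => ?_⟩
  · rwa [mem_center_iff.1 (zpowers_le.2 hz hx) g, mul_inv_cancel_right]
  · rintro _ ⟨n, rfl⟩
    rw [← zpow_natCast, ← _root_.zpow_mul, mul_comm, _root_.zpow_mul, zpow_natCast, h, _root_.one_zpow]
  · rcases h1 N hN h2 h3 x hx with rfl | rfl
    · exact one_mem _
    · exact mem_zpowers _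

variable {F : Type*} [Field F]

theorem SL2_neg_one_ne (h2 : (2 : F) ≠ 0) : (-1 : SL(2, F)) ≠ 1 := fun h => by
  have : (-1 : F) = 1 := by simpa using congrArg (fun g : SL(2, F) => g.1 0 0) h
  exact h2 (by linear_combination -this)

theorem SL2_eq_of_sq (h2 : (2 : F) ≠ 0) {g : SL(2, F)} (h : g ^ 2 = 1) : g = 1 ∨ g = -1 :=
  H64.SL2.mem_center_iff'.1 (H64.SL2.mem_center_of_mul_self_eq_one h2 ((pow_two g).symm.trans h))

theorem exists_q8 [Finite F] (hq : Odd (Nat.card F)) {Q : Subgroup SL(2, F)} (hQ : SylIn 2 Q ⊤) :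
    ∃ i ∈ Q, ∃ j ∈ Q, i ^ 2 = -1 ∧ j ^ 2 = -1 ∧ (i * j) ^ 2 = -1 := by
  obtain ⟨P, rfl⟩ := hQ.exists_sylow_top
  obtain ⟨k, hk, -, -, h, -⟩ := H10.exists_sylow_two_SL_two hq
  obtain ⟨e⟩ := h P
  obtain ⟨k, rfl⟩ : ∃ l, k = l + 1 := ⟨k - 1, by omega⟩
  let f := (P : Subgroup SL(2, F)).subtype.comp e.symm.toMonoidHom
  have hf : Function.Injective f := Subtype.val_injective.comp e.symm.injective
  have h1 : f (.a ((2 ^ (k + 1) : ℕ) : ZMod _)) = -1 := by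
    have h3 := QuaternionGroup.orderOf_xa (n := 2 ^ (k + 1)) 0
    refine (SL2_eq_of_sq (H10.two_ne_zero_of_odd_card hq) ?_).resolve_left fun h4 => ?_
    · rw [← QuaternionGroup.xa_sq 0, ← map_pow, ← pow_mul, QuaternionGroup.xa_pow_four, map_one]
    · rw [← QuaternionGroup.xa_sq 0, ← map_one f] at h4
      have := orderOf_dvd_of_pow_eq_one (hf h4)
      rw [h3] at this
      omega
  refine ⟨f (.a ((2 ^ k : ℕ) : ZMod _)), (e.symm _).2, f (.xa 0), (e.symm _).2, ?_, ?_, ?_⟩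
  · rw [← map_pow, ← h1, pow_two, QuaternionGroup.a_mul_a, ← Nat.cast_add,
      show 2 ^ k + 2 ^ k = 2 ^ (k + 1) by ring]
  · rw [← map_pow, QuaternionGroup.xa_sq, h1]
  · rw [← map_mul, ← map_pow, QuaternionGroup.a_mul_xa, QuaternionGroup.xa_sq, h1]

theorem maxNE_SL2 [Finite F] (hq : Odd (Nat.card F)) {Q : Subgroup SL(2, F)} (hQ : SylIn 2 Q ⊤) :
    MaxNE Q (zpowers (-1)) :=
  maxNE_of_central hQ (H64.SL2.mem_center_iff'.2 (Or.inr rfl)) (by simp) fun _ _ _ h x hx =>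
    SL2_eq_of_sq (H10.two_ne_zero_of_odd_card hq) (h x hx)

theorem exists_maxNE_Sp [Finite F] (hq : Odd (Nat.card F)) (n : ℕ) :
    ∃ W Z : Subgroup (symplecticGroup (Fin n) F), SylIn 2 W ⊤ ∧ MaxNE W Z ∧ Nat.card Z = 2 ^ n := by
  have h2 := H10.two_ne_zero_of_odd_card hq
  obtain ⟨Q, hQ⟩ := SylIn.exists_sylIn (p := 2) (⊤ : Subgroup SL(2, F))
  obtain ⟨T, hT⟩ := SylIn.exists_sylIn (p := 2) (⊤ : Subgroup (Perm (Fin n)))
  obtain ⟨i, hi, -, -, h, -⟩ := exists_q8 hq hQ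
  refine ⟨_, _, sylIn_spWr hq hQ hT, Wr.maxNE _ ⟨i, hi, h ▸ SL2_neg_one_ne h2⟩ (maxNE_SL2 hq hQ)
    (fun _ _ => rfl), ?_⟩
  rw [Wr.card_base, Nat.card_zpowers, orderOf_eq_prime (p := 2) (by simp) (SL2_neg_one_ne h2)]
  simp

theorem eq_zero_of_commute (h : ¬ IsSquare (-1 : F)) {y M : Matrix (Fin 2) (Fin 2) F}
    (hy : y * y = -1) (hc : y * M = M * y) (hM : M.det = 0) : M = 0 := by
  obtain ⟨v, hv, hMv⟩ := Matrix.exists_mulVec_eq_zero_iff.2 hM
  have h1 : M *ᵥ (y *ᵥ v) = 0 := by rw [mulVec_mulVec, ← hc, ← mulVec_mulVec, hMv, mulVec_zero]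
  have h3 : y *ᵥ (y *ᵥ v) = -v := by rw [mulVec_mulVec, hy, neg_mulVec, one_mulVec]
  have h4 : v 0 * (y *ᵥ v) 1 - v 1 * (y *ᵥ v) 0 ≠ 0 := fun h4 => by
    obtain ⟨c, hc⟩ : ∃ c : F, y *ᵥ v = c • v := by
      by_cases h0 : v 0 = 0
      · have h5 : v 1 ≠ 0 := fun h5 => hv (funext fun i => by fin_cases i <;> assumption)
        refine ⟨(y *ᵥ v) 1 / v 1, funext fun i => ?_⟩
        rw [h0, zero_mul, zero_sub, neg_eq_zero, mul_eq_zero] at h4
        fin_cases i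
        · simpa [h0] using h4.resolve_left h5
        · simp [h5]
      · refine ⟨(y *ᵥ v) 0 / v 0, funext fun i => ?_⟩
        fin_cases i
        · simp [h0]
        · change (y *ᵥ v) 1 = (y *ᵥ v) 0 / v 0 * v 1
          field_simp
          linear_combination h4
    rw [hc, mulVec_smul, hc, smul_smul, ← neg_one_smul F v] at h3
    exact h ⟨c, (smul_left_injective F hv h3).symm⟩
  generalize y *ᵥ v = u at h1 h4
  ext i j
  have a := congrFun hMv i
  have b := congrFun h1 i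
  simp only [mulVec, dotProduct, Fin.sum_univ_two, Pi.zero_apply] at a b
  apply mul_left_cancel₀ h4
  fin_cases j
  · change _ * M i 0 = _ * 0
    linear_combination u 1 * a - v 1 * b
  · change _ * M i 1 = _ * 0
    linear_combination v 0 * b - u 0 * a

theorem GL2_neg_one_central : (-1 : GL (Fin 2) F) ∈ center (GL (Fin 2) F) :=
  mem_center_iff.2 fun g => by simp

theorem exists_q8_GL [Finite F] (hq : Odd (Nat.card F)) {D : Subgroup (GL (Fin 2) F)}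
    (hD : SylIn 2 D ⊤) : ∃ i ∈ D ⊓ slK (Fin 2) F, ∃ j ∈ D ⊓ slK (Fin 2) F,
      i ^ 2 = -1 ∧ j ^ 2 = -1 ∧ (i * j) ^ 2 = -1 := by
  have h := sylIn_inf_normal hD (slK (Fin 2) F)
  obtain ⟨Q, hQ⟩ := SylIn.exists_sylIn (p := 2) (⊤ : Subgroup SL(2, F))
  have h1 := hQ.map_of_injective _ SpecialLinearGroup.toGL_injective
  rw [← MonoidHom.range_eq_map, range_toGL] at h1
  obtain ⟨k, -, e⟩ := h.exists_conj_eq h1
  obtain ⟨i, hi, j, hj, h3, h4, h5⟩ := exists_q8 hq hQ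
  let f := (MulAut.conj k).toMonoidHom.comp (SpecialLinearGroup.toGL (n := Fin 2) (R := F))
  have hf : f (-1) = -1 := by
    change k * SpecialLinearGroup.toGL (-1) * k⁻¹ = -1
    rw [show SpecialLinearGroup.toGL (-1 : SL(2, F)) = -1 from Units.ext rfl]
    simp
  exact ⟨f i, e ▸ mem_map_of_mem _ (mem_map_of_mem _ hi), f j,
    e ▸ mem_map_of_mem _ (mem_map_of_mem _ hj), by rw [← map_pow, h3, hf],
    by rw [← map_pow, h4, hf], by rw [← map_mul, ← map_pow, h5, hf]⟩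

theorem GL2_eq_of_sq (h2 : (2 : F) ≠ 0) {g : GL (Fin 2) F} (hg : g ∈ slK (Fin 2) F)
    (h : g ^ 2 = 1) : g = 1 ∨ g = -1 := by
  obtain ⟨a, rfl⟩ := range_toGL.ge hg
  rcases SL2_eq_of_sq h2 (g := a) (SpecialLinearGroup.toGL_injective (by rwa [map_pow, map_one]))
    with rfl | rfl
  · exact Or.inl (map_one _)
  · exact Or.inr (Units.ext rfl)

theorem maxNE_GL2 [Finite F] (hq : Nat.card F % 4 = 3) {D : Subgroup (GL (Fin 2) F)}
    (hD : SylIn 2 D ⊤) : MaxNE D (zpowers (-1)) := by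
  have hq' : Odd (Nat.card F) := Nat.odd_iff.2 (by omega)
  have h2 := H10.two_ne_zero_of_odd_card hq'
  have hs : ¬ IsSquare (-1 : F) := by
    have := Fintype.ofFinite F
    rw [FiniteField.isSquare_neg_one_iff, ← Nat.card_eq_fintype_card]
    omega
  refine maxNE_of_central hD GL2_neg_one_central (by simp) fun N hN h1 h3 s hs' => ?_
  have key : ∀ y ∈ D ⊓ slK (Fin 2) F, y * s = s * y ∨ y * s = -(s * y) := fun y hy => by
    rcases GL2_eq_of_sq h2 (g := y * s * y⁻¹ * s⁻¹) (by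
      simp [MonoidHom.mem_ker, show GeneralLinearGroup.det y = 1 from hy.2])
      (h3 _ (mul_mem (h1 y hy.1 s hs') (inv_mem hs'))) with h | h
    · left
      rwa [mul_inv_eq_one, mul_inv_eq_iff_eq_mul] at h
    · right
      rwa [mul_inv_eq_iff_eq_mul, mul_inv_eq_iff_eq_mul, neg_one_mul, neg_mul] at h
  obtain ⟨y, hy, hys⟩ : ∃ y : GL (Fin 2) F, y ^ 2 = -1 ∧ y * s = s * y := by
    obtain ⟨i, hi, j, hj, h4, h5, h6⟩ := exists_q8_GL hq' hD
    rcases key i hi with h | h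
    · exact ⟨i, h4, h⟩
    rcases key j hj with h' | h'
    · exact ⟨j, h5, h'⟩
    exact ⟨i * j, h6, by rw [mul_assoc, h', mul_neg, ← mul_assoc, h, neg_mul, neg_neg, mul_assoc]⟩
  have hy' : y.val * y.val = -1 := by rw [← Units.val_mul, ← pow_two, hy]; rfl
  have hys' : y.val * s.val = s.val * y.val := congrArg Units.val hys
  have h4 : (s.val - 1) * (s.val + 1) = 0 := by
    have : s.val * s.val = 1 := by rw [← Units.val_mul, ← pow_two, h3 s hs']; rfl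
    rw [Matrix.sub_mul, Matrix.mul_add, this]
    simp [add_comm]
  have h5 := congrArg det h4
  rw [det_mul, det_zero, mul_eq_zero] at h5
  refine h5.imp (fun h => Units.ext (sub_eq_zero.1 (eq_zero_of_commute hs hy' ?_ h)))
    fun h => Units.ext (eq_neg_of_add_eq_zero_left (eq_zero_of_commute hs hy' ?_ h))
  · rw [Matrix.mul_sub, Matrix.sub_mul, hys', Units.val_one, Matrix.mul_one, Matrix.one_mul]
  · rw [Matrix.mul_add, Matrix.add_mul, hys', Units.val_one, Matrix.mul_one, Matrix.one_mul]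

theorem gl_neg_one_ne {J : Type*} [Fintype J] [DecidableEq J] [Nonempty J] (h2 : (2 : F) ≠ 0) :
    (-1 : GL J F) ≠ 1 := fun h => by
  obtain ⟨i⟩ := ‹Nonempty J›
  have : (-1 : F) = 1 := by simpa using congrArg (fun g : GL J F => g.1 i i) h
  exact h2 (by linear_combination -this)

theorem v2_prod_gl_one {q : ℕ} (hq : q % 4 = 1) (h1 : 1 < q) (n : ℕ) :
    padicValNat 2 (∏ i ∈ Finset.range n, (q ^ (i + 1) - 1)) =
      padicValNat 2 (q - 1) * n + padicValNat 2 n.factorial := by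
  have hq' : Odd q := Nat.odd_iff.2 (by omega)
  have h3 : padicValNat 2 (q ^ 2 - 1) = padicValNat 2 (q - 1) + 1 := by
    rw [show q ^ 2 - 1 = (q + 1) * (q - 1) by simpa using Nat.sq_sub_sq q 1,
      padicValNat.mul (by omega) (by omega), show q + 1 = (2 * (q / 4) + 1) * 2 by omega,
      v2_odd_mul ⟨_, rfl⟩ two_ne_zero, add_comm]
    simp
  rw [v2_prod_gl hq' h1, h3, padicValNat_factorial_div (p := 2) n]
  conv_rhs => rw [show padicValNat 2 (q - 1) * n = padicValNat 2 (q - 1) * (n / 2 + (n + 1) / 2) by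
    congr 1; omega]
  ring

theorem sylIn_glWr_one [Finite F] (hq : Nat.card F % 4 = 1) {J : Type*} [Fintype J] [DecidableEq J]
    [Fintype ι] [DecidableEq ι] (e : Unit × ι ⊕ Empty ≃ J) {D : Subgroup (GL Unit F)}
    (hD : SylIn 2 D ⊤) {T : Subgroup (Perm ι)} (hT : SylIn 2 T ⊤) :
    SylIn 2 ((glWr F e).sub D ⊥ T) ⊤ := by
  have hq' : Odd (Nat.card F) := Nat.odd_iff.2 (by omega)
  have h1 : 1 < Nat.card F := Finite.one_lt_card
  refine Wr.sylIn _ hD.pgrp IsPGroup.of_bot hT.pgrp ?_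
  have hJ : Fintype.card J = Fintype.card ι := by rw [← Fintype.card_congr e]; simp
  rw [sylIn_top_card hD, card_sylow_perm hT, v2_card_GL hq' Unit, H10.card_GL, v2_odd_mul hq'.pow
    (Finset.prod_ne_zero_iff.2 fun _ _ => pow_sub_one_ne_zero h1 (by omega)),
    v2_prod_gl_one hq h1, hJ]
  simp [pow_add, pow_mul]

theorem gl_unit_comm (a b : GL Unit F) : a * b = b * a :=
  Units.ext (by ext; simp [Matrix.mul_apply, mul_comm])

theorem gl_unit_eq_of_sq {g : GL Unit F} (h : g ^ 2 = 1) : g = 1 ∨ g = -1 := by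
  have : g.val () () * g.val () () = 1 := by
    simpa [pow_two, Matrix.mul_apply] using congrArg (fun g : GL Unit F => g.val () ()) h
  refine (mul_self_eq_one_iff.1 this).imp (fun h => Units.ext ?_) fun h => Units.ext ?_
  · ext; simpa using h
  · ext; simpa using h

theorem exists_maxNE_GL_one [Finite F] (hq : Nat.card F % 4 = 1) (n : ℕ) :
    ∃ W Z : Subgroup (GL (Fin n) F), SylIn 2 W ⊤ ∧ MaxNE W Z ∧ Nat.card Z = 2 ^ n := by
  have hq' : Odd (Nat.card F) := Nat.odd_iff.2 (by omega)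
  have h2 := H10.two_ne_zero_of_odd_card hq'
  obtain ⟨D, hD⟩ := SylIn.exists_sylIn (p := 2) (⊤ : Subgroup (GL Unit F))
  obtain ⟨T, hT⟩ := SylIn.exists_sylIn (p := 2) (⊤ : Subgroup (Perm (Fin n)))
  have hz : (-1 : GL Unit F) ∈ center _ := mem_center_iff.2 fun g => gl_unit_comm _ _
  obtain ⟨r, hr⟩ : IsSquare (-1 : F) := by
    have := Fintype.ofFinite F
    rw [FiniteField.isSquare_neg_one_iff, ← Nat.card_eq_fintype_card]
    omega
  have hr0 : r ≠ 0 := fun h => by simp [h] at hr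
  have hd : (GeneralLinearGroup.scalar Unit (Units.mk0 r hr0)) ^ 2 = -1 :=
    Units.ext (by ext; simp [pow_two, hr])
  refine ⟨_, _, sylIn_glWr_one hq (Fintype.equivOfCardEq (by simp)) hD hT,
    Wr.maxNE _ ⟨_, mem_of_central hD (mem_center_iff.2 fun g => gl_unit_comm _ _) (k := 2)
      (by rw [pow_two 2, pow_mul, hd]; simp), hd ▸ gl_neg_one_ne h2⟩
      (maxNE_of_central hD hz (by simp) fun _ _ _ h x hx => gl_unit_eq_of_sq (h x hx))
      (fun c hc => by rw [mem_bot.1 hc, one_pow]), ?_⟩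
  rw [Wr.card_base, Nat.card_zpowers, orderOf_eq_prime (p := 2) (by simp) (gl_neg_one_ne h2)]
  simp

theorem exists_maxNE_GL_three [Finite F] (hq : Nat.card F % 4 = 3) (n : ℕ) :
    ∃ W Z : Subgroup (GL (Fin n) F), SylIn 2 W ⊤ ∧ MaxNE W Z ∧ Nat.card Z = 2 ^ ((n + 1) / 2) := by
  have hq' : Odd (Nat.card F) := Nat.odd_iff.2 (by omega)
  have h2 := H10.two_ne_zero_of_odd_card hq'
  obtain ⟨D, hD⟩ := SylIn.exists_sylIn (p := 2) (⊤ : Subgroup (GL (Fin 2) F))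
  obtain ⟨C, hC⟩ := SylIn.exists_sylIn (p := 2) (⊤ : Subgroup (GL (Fin (n % 2)) F))
  obtain ⟨T, hT⟩ := SylIn.exists_sylIn (p := 2) (⊤ : Subgroup (Perm (Fin (n / 2))))
  obtain ⟨i, hi, -, -, h, -⟩ := exists_q8_GL hq' hD
  have h4 : Nat.card C = 2 ^ (n % 2) := by
    rw [sylIn_top_card hC, v2_card_GL hq', Fintype.card_fin, show n % 2 / 2 = 0 by omega,
      show (n % 2 + 1) / 2 = n % 2 by omega,
      show Nat.card F - 1 = (2 * (Nat.card F / 4) + 1) * 2 by omega,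
      v2_odd_mul ⟨_, rfl⟩ two_ne_zero]
    simp
  refine ⟨_, _, sylIn_glWr hq' (Fintype.equivOfCardEq (by simp; omega)) (by simp; omega) hD hC hT,
    Wr.maxNE _ ⟨i, hi.1, h ▸ gl_neg_one_ne h2⟩ (maxNE_GL2 hq hD) fun c hc => ?_, ?_⟩
  · refine orderOf_dvd_iff_pow_eq_one.1 ((C.orderOf_dvd_natCard hc).trans ?_)
    rw [h4]
    rcases Nat.mod_two_eq_zero_or_one n with h | h <;> simp [h]
  · rw [Wr.card_base, Nat.card_zpowers, orderOf_eq_prime (p := 2) (by simp) (gl_neg_one_ne h2), h4,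
      ← pow_add]
    congr 1
    simp
    omega

end H82
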