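import Mathlib
import Cfsg.Agent.Lib.SL2.Finite
import Cfsg.Agent.Lib.FGS.Pronormal
import Cfsg.Agent.Lib.Syl2.NRank

/-!
# Subgroups of odd index in groups of Möbius transformations are pronormal
-/

set_option autoImplicit false

namespace H82

open Cfsg H29 H61 MulAction Subgroup
open scoped Pointwise

theorem eq_one_of_odd_of_two {G : Type*} [Group G] {g : G} {n k : ℕ} (hn : Odd n) (h1 : g ^ n = 1)
    (h2 : g ^ 2 ^ k = 1) : g = 1 := by
  have := pow_gcd_eq_one.2 ⟨h1, h2⟩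
  rwa [(Nat.coprime_two_right.2 hn).pow_right k, pow_one] at this

theorem exists_odd_orderOf_pow {G : Type*} [Group G] [Finite G] (g : G) :
    ∃ k, Odd (orderOf (g ^ 2 ^ k)) := by
  obtain ⟨k, m, hm, e⟩ := Nat.exists_eq_two_pow_mul_odd (orderOf_pos g).ne'
  refine ⟨k, hm.of_dvd_nat (orderOf_dvd_of_pow_eq_one ?_)⟩
  rw [← pow_mul, ← e, pow_orderOf_eq_one]

variable {p : ℕ} {L : Type*} [Field L] {G : Type*} [Group G] {Ω : Type*} [MulAction G Ω]

theorem fix_of_odd_order {a g : G} (h3 : ∀ x y z : Ω, x ≠ y → x ≠ z → y ≠ z → a • x = x →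
    a • y = y → a • z = z → False) (ho : Odd (orderOf g)) (hc : g * a = a * g) {x : Ω}
    (hx : a • x = x) : g • x = x := by
  have hg : ∀ y : Ω, a • y = y → a • g • y = g • y := fun y hy => by
    rw [← mul_smul, ← hc, mul_smul, hy]
  by_contra h
  refine h3 x (g • x) (g • g • x) (Ne.symm h) (fun h1 => h ?_)
    (fun h1 => h (smul_left_cancel g h1).symm) hx (hg x hx) (hg _ (hg x hx))
  have h2 : g ^ 2 ∈ stabilizer G x := by rw [mem_stabilizer_iff, sq, mul_smul, ← h1]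
  exact zpowers_le.2 h2 (mem_zpowers_pow_iff.2 (Nat.coprime_two_left.2 ho))

theorem mob_fix_odd [Finite G] (hM : Mob p L G Ω) (hp : p.Prime) (hp2 : p ≠ 2)
    (ho : Odd (Nat.card G)) : ∃ x : Ω, ∀ g : G, g • x = x := by
  have := Fact.mk hp
  have a5 : ¬ Nonempty (G ≃* alternatingGroup (Fin 5)) := fun ⟨e⟩ => by
    rw [Nat.card_congr e.toEquiv, nat_card_alternatingGroup] at ho
    simp [Nat.factorial] at ho
    exact absurd ho (by decide)
  by_cases h : p ∣ Nat.card G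
  · obtain ⟨g, hg⟩ := exists_prime_orderOf_dvd_card' p h
    obtain ⟨x, -, hu⟩ := hM.exists_wild (g := g)
      (fun e => hp.one_lt.ne (by rw [← hg, e, orderOf_one])) (hg ▸ pow_orderOf_eq_one g)
    rcases hM.wild hp hu with h1 | ⟨h1, -⟩ | ⟨-, h1⟩ | ⟨-, h1, -⟩
    · exact ⟨x, h1⟩
    · exact absurd h1 hp2
    · exact absurd h1 a5
    · have h2 : Odd (hM.u x) := ho.of_dvd_nat (hM.U x).card_subgroup_dvd_card
      have h3 : Odd (nOrb G x) := ho.of_dvd_nat (Dvd.intro _ (nOrb_mul_eSt x))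
      rw [h1, Nat.odd_add_one] at h3
      exact absurd h2 h3
  rcases hM.tame (hM.u_eq_one_of_not_dvd hp h) with h1 | ⟨k, -, -, ⟨e⟩⟩ | ⟨⟨e⟩⟩ | ⟨⟨e⟩⟩ | h1
  · obtain ⟨g, hg⟩ := h1.exists_generator
    obtain ⟨x, hx⟩ := hM.fix g
    exact ⟨x, fun a => (zpowers_le.2 (mem_stabilizer_iff.2 hx) : zpowers g ≤ _) (hg a)⟩
  · rw [Nat.card_congr e.toEquiv, DihedralGroup.nat_card] at ho
    exact absurd ho (by simp)
  · rw [Nat.card_congr e.toEquiv, nat_card_alternatingGroup] at ho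
    simp [Nat.factorial] at ho
    exact absurd ho (by decide)
  · rw [Nat.card_congr e.toEquiv, Nat.card_perm] at ho
    simp [Nat.factorial] at ho
    exact absurd ho (by decide)
  · exact absurd h1 a5

theorem mob_comm (hM : Mob p L G Ω) {x y : Ω} (hxy : x ≠ y) {g h : G} (h1 : g • x = x)
    (h2 : g • y = y) (h3 : h • x = x) (h4 : h • y = y) : g * h = h * g := by
  obtain ⟨μ, hμ, -⟩ := hM.mult x
  have key : ∀ z : Ω, g • z = z → h • z = z → (g * h * g⁻¹ * h⁻¹) • z = z := fun z a b =>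
    mul_mem (mul_mem (mul_mem (mem_stabilizer_iff.2 a) (mem_stabilizer_iff.2 b))
      (inv_mem (mem_stabilizer_iff.2 a))) (inv_mem (mem_stabilizer_iff.2 b))
  rw [← mul_inv_eq_iff_eq_mul, ← mul_inv_eq_one]
  by_contra h5
  refine hxy (hM.uni _ x y h5 ((hμ (⟨g, h1⟩ * ⟨h, h3⟩ * ⟨g, h1⟩⁻¹ * ⟨h, h3⟩⁻¹)).1 ?_)
    (key x h1 h3) (key y h2 h4))
  simp

theorem mob_inv_eq (hM : Mob p L G Ω) (hp : Odd p) {x : Ω} {a b : G} (ha : a * a = 1)
    (hb : b * b = 1) (ha1 : a ≠ 1) (hb1 : b ≠ 1) (hab : a * b = b * a) (h1 : a • x = x)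
    (h2 : b • x = x) : a = b := by
  obtain ⟨μ, hμ, -⟩ := hM.mult x
  have key : ∀ c : stabilizer G x, c.1 * c.1 = 1 → μ c = 1 → c.1 = 1 := fun c h h' =>
    eq_one_of_odd_of_two (k := 1) hp ((hμ c).1 h') (by rw [pow_one, sq, h])
  have k2 : ∀ c : stabilizer G x, c.1 * c.1 = 1 → c.1 ≠ 1 → μ c = -1 := fun c h h' => by
    have : μ c * μ c = 1 := by rw [← map_mul, show c * c = 1 from Subtype.ext h, map_one]
    refine Units.ext ((mul_self_eq_one_iff.1 (congrArg Units.val this)).resolve_left fun e => ?_)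
    exact h' (key c h (Units.ext e))
  have := key (⟨a, h1⟩ * ⟨b, h2⟩) (by
    change a * b * (a * b) = 1
    rw [mul_assoc, ← mul_assoc b, ← hab, mul_assoc, hb, mul_one, ha])
    (by rw [map_mul, k2 _ ha ha1, k2 _ hb hb1]; simp)
  exact (eq_inv_of_mul_eq_one_left this).trans (inv_eq_of_mul_eq_one_right hb)

theorem mob_swap (hM : Mob p L G Ω) {a b : G} (ha : a ≠ 1) (hab : b * a = a * b) {x y : Ω}
    (hxy : x ≠ y) (hx : a • x = x) (hy : a • y = y) :
    (b • x = x ∧ b • y = y) ∨ (b • x = y ∧ b • y = x) := by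
  have key : ∀ z : Ω, a • z = z → b • z = x ∨ b • z = y := fun z hz => by
    by_contra h
    push Not at h
    exact ha (hM.three a x y _ hxy h.1.symm h.2.symm hx hy (by rw [← mul_smul, ← hab, mul_smul, hz]))
  rcases key x hx with h | h <;> rcases key y hy with h' | h'
  · exact absurd (smul_left_cancel b (h.trans h'.symm)) hxy
  · exact Or.inl ⟨h, h'⟩
  · exact Or.inr ⟨h, h'⟩
  · exact absurd (smul_left_cancel b (h.trans h'.symm)) hxy

theorem pow_ne_one_of_inv (hp : Odd p) {a : G} (ha : a * a = 1) (ha1 : a ≠ 1) : a ^ p ≠ 1 :=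
  fun h => ha1 (eq_one_of_odd_of_two (k := 1) hp h (by rw [pow_one, sq, ha]))

theorem mob_mem_of_comm [Finite G] (hM : Mob p L G Ω) (hp : Odd p) {S : Subgroup G}
    (hS : SylIn 2 S ⊤) (h0 : ∀ x : Ω, ∃ s ∈ S, s • x ≠ x) {a : G} (ha : a * a = 1) (ha1 : a ≠ 1)
    (hc : ∀ s ∈ S, s * a = a * s) {n : G} (hn : n ∈ normalizer (S : Set G)) (h : n * a = a * n) :
    n ∈ S := by
  obtain ⟨k, hk⟩ := exists_odd_orderOf_pow n
  refine hS.mem_of_mem_normalizer (mem_top n) (k := k) ?_ hn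
  have hg := pow_mem hn (2 ^ k)
  have hga : n ^ 2 ^ k * a = a * n ^ 2 ^ k := Commute.pow_left h _
  generalize n ^ 2 ^ k = g at hk hg hga
  obtain ⟨x, y, hxy, hx, hy⟩ := hM.two a (pow_ne_one_of_inv hp ha ha1)
  obtain ⟨b, hb, hbx⟩ := h0 x
  obtain ⟨h1, h2⟩ := (mob_swap hM ha1 (hc b hb) hxy hx hy).resolve_left fun h => hbx h.1
  have h3 := fun x y z h1 h2 h3 h4 h5 h6 => ha1 (hM.three a x y z h1 h2 h3 h4 h5 h6)
  have gx := fix_of_odd_order h3 hk hga hx
  have gy := fix_of_odd_order h3 hk hga hy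
  have h4 : Commute g (b * g⁻¹ * b⁻¹) := mob_comm hM hxy gx gy
    (by rw [mul_smul, mul_smul, inv_smul_eq_iff.2 h2.symm, inv_smul_eq_iff.2 gy.symm, h2])
    (by rw [mul_smul, mul_smul, inv_smul_eq_iff.2 h1.symm, inv_smul_eq_iff.2 gx.symm, h1])
  obtain ⟨l, hl⟩ := hS.pgrp ⟨_, mul_mem ((mem_normalizer_iff.1 hg b).1 hb) (inv_mem hb)⟩
  have h5 : g * (b * g⁻¹ * b⁻¹) = 1 := eq_one_of_odd_of_two (k := l) hk
    (by rw [h4.mul_pow, conj_pow, inv_pow, pow_orderOf_eq_one]; simp)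
    (by simpa [mul_assoc] using congrArg Subtype.val hl)
  obtain ⟨z, hz⟩ := hM.fix b
  have hb1 : b ≠ 1 := fun e => hbx (by rw [e, one_smul])
  refine hM.three g x y z hxy (fun e => hbx (e ▸ hz)) (fun e => hxy ?_) gx gy (fix_of_odd_order
    (fun x y z h1 h2 h3 h4 h5 h6 => hb1 (hM.three b x y z h1 h2 h3 h4 h5 h6)) hk ?_ hz)
  · rw [← h2, e, hz]
  · rw [← mul_inv_eq_iff_eq_mul, ← mul_inv_eq_one, ← h5]
    group

theorem mob_cent_four (hM : Mob p L G Ω) (hp : Odd p) {a b s : G} (ha : a * a = 1)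
    (hb : b * b = 1) (ha1 : a ≠ 1) (hb1 : b ≠ 1) (hne : a ≠ b) (hab : a * b = b * a)
    (h1 : s * a = a * s) (h2 : s * b = b * s) : s = 1 ∨ s = a ∨ s = b ∨ s = a * b := by
  obtain ⟨x, y, hxy, hx, hy⟩ := hM.two a (pow_ne_one_of_inv hp ha ha1)
  obtain ⟨z, w, hzw, hz, hw⟩ := hM.two b (pow_ne_one_of_inv hp hb hb1)
  have n1 : ∀ t : Ω, a • t = t → b • t = t → False := fun t h h' =>
    hne (mob_inv_eq hM hp ha hb ha1 hb1 hab h h')
  obtain ⟨b1, b2⟩ := (mob_swap hM ha1 hab.symm hxy hx hy).resolve_left fun h => n1 x hx h.1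
  obtain ⟨a1, a2⟩ := (mob_swap hM hb1 hab hzw hz hw).resolve_left fun h => n1 z h.1 hz
  have key : ∀ t : G, t • x = x → t • y = y → t • z = z → t = 1 := fun t =>
    hM.three t x y z hxy (fun e => n1 x hx (e ▸ hz)) fun e => n1 y hy (e ▸ hz)
  have ia := inv_eq_of_mul_eq_one_right ha
  have ib := inv_eq_of_mul_eq_one_right hb
  rcases mob_swap hM ha1 h1 hxy hx hy with ⟨s1, s2⟩ | ⟨s1, s2⟩ <;>
    rcases mob_swap hM hb1 h2 hzw hz hw with ⟨s3, -⟩ | ⟨s3, -⟩
  · exact Or.inl (key s s1 s2 s3)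
  · refine Or.inr (Or.inl ?_)
    rw [← ia, eq_inv_iff_mul_eq_one, h1]
    apply key <;> simp [mul_smul, *]
  · refine Or.inr (Or.inr (Or.inl ?_))
    rw [← ib, eq_inv_iff_mul_eq_one, h2]
    apply key <;> simp [mul_smul, *]
  · refine Or.inr (Or.inr (Or.inr ?_))
    rw [← ia, ← ib, ← mul_inv_rev, eq_comm, inv_eq_iff_mul_eq_one]
    apply key <;> simp [mul_smul, *]

theorem pronormal_mob [Finite G] (hM : Mob p L G Ω) (hp : p.Prime) (hp2 : p ≠ 2) (P : Sylow 2 G)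
    (h0 : ∀ x : Ω, ∃ s ∈ (P : Subgroup G), s • x ≠ x) {H : Subgroup G} (hH : (P : Subgroup G) ≤ H) :
    IsPronormal H := by
  have hpo := hp.odd_of_ne_two hp2
  have hS := SylIn.of_sylow_top P
  refine H77.isPronormal_of_normalizer hH (H77.isPronormal_sylow P) fun g hg => ?_
  set S := (P : Subgroup G)
  by_cases hgS : g ∈ S
  · exact H77.conjIn_of_mem_normalizer (le_normalizer (hH hgS))
  obtain ⟨a, haS, ha, ha1, hc⟩ : ∃ a ∈ S, a * a = 1 ∧ a ≠ 1 ∧ ∀ s ∈ S, s * a = a * s := by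
    obtain ⟨x, -⟩ := hM.fix 1
    obtain ⟨s, hs, hs'⟩ := h0 x
    have : Nontrivial S := ⟨⟨s, hs⟩, 1, fun e => hs' (by
      rw [show s = 1 from congrArg Subtype.val e, one_smul])⟩
    have := hS.pgrp.center_nontrivial
    obtain ⟨n, hn, e⟩ := (hS.pgrp.to_subgroup (center S)).nontrivial_iff_card.1 this
    obtain ⟨a, ha⟩ := exists_prime_orderOf_dvd_card' (G := center S) 2 (e ▸ dvd_pow_self 2 hn.ne')
    refine ⟨a.1.1, a.1.2, ?_, fun e => ?_, fun s hs => ?_⟩
    · have := pow_orderOf_eq_one a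
      rw [ha, sq] at this
      exact congrArg (fun z : center S => z.1.1) this
    · rw [show a = 1 from Subtype.ext (Subtype.ext e), orderOf_one] at ha
      exact absurd ha (by decide)
    · exact congrArg Subtype.val (mem_center_iff.1 a.2 ⟨s, hs⟩)
  have B := fun {a} ha ha1 hc {n} hn h => mob_mem_of_comm hM hpo hS h0 (a := a) ha ha1 hc (n := n) hn h
  have cj : ∀ n ∈ normalizer (S : Set G), ∀ s ∈ S, n * s * n⁻¹ ∈ S := fun n hn s hs =>
    (mem_normalizer_iff.1 hn s).1 hs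
  have c1 : ∀ n c : G, c * c = 1 → n * c * n⁻¹ * (n * c * n⁻¹) = 1 := fun n c h => by
    rw [conj_mul, h]; simp
  have c2 : ∀ n c : G, c ≠ 1 → n * c * n⁻¹ ≠ 1 := fun n c h e => h (conj_eq_one_iff.1 e)
  have hne : a ≠ g * a * g⁻¹ := fun e => hgS (B ha ha1 hc hg (mul_inv_eq_iff_eq_mul.1 e.symm))
  have hbS := cj g hg a haS
  have hc' : ∀ s ∈ S, s * (g * a * g⁻¹) = g * a * g⁻¹ * s := fun s hs => by
    have := hc _ (cj _ (inv_mem hg) s hs)
    calc _ = g * (g⁻¹ * s * g⁻¹⁻¹ * a) * g⁻¹ := by group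
      _ = _ := by rw [this]; group
  have hb := c1 g a ha
  have hb1 := c2 g a ha1
  have four : ∀ s ∈ S, s = 1 ∨ s = a ∨ s = g * a * g⁻¹ ∨ s = a * (g * a * g⁻¹) := fun s hs =>
    mob_cent_four hM hpo ha hb ha1 hb1 hne (hc' a haS) (hc s hs) (hc' s hs)
  have comm : ∀ s ∈ S, ∀ t ∈ S, s * t = t * s := fun s hs t ht => by
    rcases four t ht with rfl | rfl | rfl | rfl
    · simp
    · exact hc s hs
    · exact hc' s hs
    · exact Commute.mul_right (hc s hs) (hc' s hs)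
  have sq : ∀ s ∈ S, s * s = 1 := fun s hs => by
    rcases four s hs with rfl | rfl | rfl | rfl
    · simp
    · exact ha
    · exact hb
    · rw [mul_assoc, ← mul_assoc (g * a * g⁻¹), ← hc' a haS, mul_assoc, hb, mul_one, ha]
  set K := H ⊔ MulAut.conj g • H with hK
  have hSK : S ≤ K := hH.trans le_sup_left
  by_cases h1 : ∃ h ∈ K, h ∈ normalizer (S : Set G) ∧ h ∉ S
  · obtain ⟨h, hhK, hn, hh⟩ := h1
    refine ⟨g, ?_, by simp⟩
    have key : ∀ k ∈ K, k ∈ normalizer (S : Set G) → k * a * k⁻¹ = g * a * g⁻¹ → g ∈ K :=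
      fun k hk hk' e => (mul_mem_cancel_left (inv_mem hk)).1 (hSK (B ha ha1 hc
        (mul_mem (inv_mem hk') hg) (by
          calc _ = k⁻¹ * (g * a * g⁻¹) * g := by group
            _ = _ := by rw [← e]; group)))
    have h2 : h * a * h⁻¹ ≠ a := fun e => hh (B ha ha1 hc hn (mul_inv_eq_iff_eq_mul.1 e))
    have h3 : h * h * a * (h * h)⁻¹ ≠ a := fun e => hh (hS.mem_of_mem_normalizer (mem_top h) (k := 2)
      (by
        have := sq _ (B ha ha1 hc (mul_mem hn hn) (mul_inv_eq_iff_eq_mul.1 e))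
        rw [← this]; exact (show h ^ 4 = _ by simp only [pow_succ, pow_zero, one_mul, mul_assoc])) hn)
    rcases four _ (cj h hn a haS) with e | e | e | e
    · exact absurd e (c2 h a ha1)
    · exact absurd e h2
    · exact key h hhK hn e
    rcases four _ (cj _ (mul_mem hn hn) a haS) with e' | e' | e' | e'
    · exact absurd e' (c2 _ a ha1)
    · exact absurd e' h3
    · exact key _ (mul_mem hhK hhK) (mul_mem hn hn) e'
    · refine absurd ((MulAut.conj h).injective ?_) h2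
      rw [MulAut.conj_apply, MulAut.conj_apply]
      exact Eq.trans (by group) (e'.trans e.symm)
  push Not at h1
  have hS' := hS.mono hSK le_top
  have hN : normalizer ((hS'.toSylow : Subgroup K) : Set K) ≤
      centralizer ((hS'.toSylow : Subgroup K) : Set K) := fun n hn s hs => Subtype.ext
    (comm _ hs _ (h1 n n.2 (Subgroup.mem_normalizer_fintype fun t ht =>
      (mem_normalizer_iff.1 hn ⟨t, hSK ht⟩).1 ht)))
  let O := (MonoidHom.transferSylow hS'.toSylow hN).ker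
  have hO : ∀ u : K, Odd (orderOf u) → u ∈ O := fun u hu => by
    obtain ⟨k, hk⟩ := hS'.toSylow.isPGroup' (MonoidHom.transferSylow hS'.toSylow hN u)
    exact eq_one_of_odd_of_two hu (by rw [← map_pow, pow_orderOf_eq_one, map_one]) hk
  by_cases h2 : ∀ u ∈ H, Odd (orderOf u) → u = 1
  · rw [hS.eq_of_le (Q := H) (fun u => ?_) hH le_top]
    · exact H77.conjIn_of_mem_normalizer hg
    obtain ⟨k, hk⟩ := exists_odd_orderOf_pow u.1
    exact ⟨k, Subtype.ext (h2 _ (pow_mem u.2 _) hk)⟩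
  exfalso
  push Not at h2
  obtain ⟨u, hu, hu', hu1⟩ := h2
  obtain ⟨x, hx⟩ := mob_fix_odd ((hM.subgroup K).subgroup O) hp hp2
    (Nat.odd_iff.2 (Nat.two_dvd_ne_zero.1 (MonoidHom.not_dvd_card_ker_transferSylow _ hN)))
  have hx' : ∀ v ∈ K, Odd (orderOf v) → v • x = x := fun v hv hv' =>
    hx ⟨⟨v, hv⟩, hO _ (by rwa [orderOf_mk])⟩
  have huK : u ∈ K := mem_sup_left hu
  have oc : ∀ n : G, Odd (orderOf (n * u * n⁻¹)) := fun n =>
    hu'.of_dvd_nat (orderOf_dvd_of_pow_eq_one (by rw [conj_pow, pow_orderOf_eq_one]; simp))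
  have fx : ∀ n : G, n⁻¹ * u * n⁻¹⁻¹ ∈ K → u • n • x = n • x := fun n hn => by
    have := hx' _ hn (oc _)
    rwa [inv_inv, mul_smul, mul_smul, inv_smul_eq_iff] at this
  have fS : ∀ s ∈ S, u • s • x = s • x := fun s hs => fx s
    (mul_mem (mul_mem (inv_mem (hSK hs)) huK) (inv_mem (inv_mem (hSK hs))))
  have fg : u • g⁻¹ • x = g⁻¹ • x := fx _ (mem_sup_right (by
    rw [H1.mem_conj_smul_iff]; simpa [mul_assoc] using hu))
  have t3 : ∀ y z : Ω, u • y = y → u • z = z → x = y ∨ x = z ∨ y = z := fun y z hy hz => by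
    by_contra h
    push Not at h
    exact hu1 (hM.three u x y z h.1 h.2.1 h.2.2 (hx' u huK hu') hy hz)
  obtain ⟨c, hcS, hc1, hcx⟩ : ∃ c ∈ S, c ≠ 1 ∧ c • x = x := by
    rcases t3 _ _ (fS a haS) (fS _ hbS) with e | e | e
    · exact ⟨a, haS, ha1, e.symm⟩
    · exact ⟨_, hbS, hb1, e.symm⟩
    · exact ⟨a⁻¹ * (g * a * g⁻¹), mul_mem (inv_mem haS) hbS, fun e' => hne (inv_mul_eq_one.1 e'),
        by rw [mul_smul, ← e, inv_smul_smul]⟩
  obtain ⟨d, hd, hdx⟩ := h0 x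
  have h3 : c • g⁻¹ • x = g⁻¹ • x := by
    rcases t3 _ _ (fS d hd) fg with e | e | e
    · exact absurd e.symm hdx
    · rw [← e, hcx]
    · rw [← e, ← mul_smul, comm c hcS d hd, mul_smul, hcx]
  refine hgS (B (sq c hcS) hc1 (fun s hs => comm s hs c hcS) hg (mul_inv_eq_iff_eq_mul.1 ?_))
  exact mob_inv_eq hM hpo (c1 g c (sq c hcS)) (sq c hcS) (c2 g c hc1) hc1
    (comm _ (cj g hg c hcS) c hcS) (by rw [mul_smul, mul_smul, h3, smul_inv_smul]) hcx

open MatrixGroups in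
theorem pronormal_PSL2 {F : Type*} [Field F] [Finite F] (hq : Odd (Nat.card F))
    {H : Subgroup PSL(2, F)} (hH : Odd H.index) : IsPronormal H := by
  obtain ⟨p, hp⟩ := CharP.exists F
  have h2 := H10.two_ne_zero_of_odd_card hq
  have hp' : Fact p.Prime := ⟨CharP.char_is_prime F p⟩
  have hL : CharP (AlgebraicClosure F) p := (Algebra.charP_iff F _ p).1 inferInstance
  let _ := MulAction.compHom (P1 (AlgebraicClosure F)) (iota F)
  have hM : Mob p (AlgebraicClosure F) PSL(2, F) (P1 (AlgebraicClosure F)) :=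
    (mob_pgl p).of_hom (iota F) (iota_injective F) fun _ _ => rfl
  obtain ⟨P, hP⟩ := SylIn.exists_sylIn (p := 2) H
  obtain ⟨P, rfl⟩ := (hP.of_trans le_top (by
    rw [relIndex_top_right]; exact hH.not_two_dvd_nat)).exists_sylow_top
  have hp2 : p ≠ 2 := by rintro rfl; exact h2 (CharP.cast_eq_zero F 2)
  refine pronormal_mob hM hp'.out hp2 P (fun x => ?_) hP.le
  by_contra h0
  push Not at h0
  obtain ⟨Q, hQ⟩ := SylIn.exists_sylIn (p := 2) (⊤ : Subgroup SL(2, F))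
  obtain ⟨i, hi, j, hj, h3, h4, h5⟩ := exists_q8 hq hQ
  obtain ⟨k, -, hk⟩ := (SylIn.of_sylow_top P).exists_conj
    (hQ.pgrp.map (QuotientGroup.mk' (center SL(2, F)))) le_top
  let f := (MulAut.conj k).toMonoidHom.comp (QuotientGroup.mk' (center SL(2, F)))
  have hf : ∀ a, f a = 1 ↔ a ∈ center SL(2, F) := fun a =>
    (map_eq_one_iff _ (MulAut.conj k).injective).trans (QuotientGroup.eq_one_iff a)
  have h6 : f (-1) = 1 := (hf _).2 (mem_center_iff.2 fun g => by simp)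
  have h7 : i * j ≠ j * i := fun e => by
    rw [Commute.mul_pow e, h3, h4, neg_mul_neg, one_mul] at h5
    have := congrArg (fun g : SL(2, F) => g.1 0 0) h5
    simp at this
    exact h2 (by linear_combination this)
  have s1 : f i * f i = 1 := by rw [← map_mul, ← sq, h3, h6]
  have s2 : f j * f j = 1 := by rw [← map_mul, ← sq, h4, h6]
  have s3 : f i * f j * (f i * f j) = 1 := by rw [← map_mul, ← map_mul, ← sq, h5, h6]
  have := mob_inv_eq hM (hp'.out.odd_of_ne_two hp2) s1 s2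
    (fun e => h7 (mem_center_iff.1 ((hf i).1 e) j).symm) (fun e => h7 (mem_center_iff.1 ((hf j).1 e) i))
    (by rw [← inv_eq_of_mul_eq_one_right s3, mul_inv_rev, inv_eq_of_mul_eq_one_right s1,
      inv_eq_of_mul_eq_one_right s2])
    (h0 _ (hk _ (mem_map_of_mem _ hi))) (h0 _ (hk _ (mem_map_of_mem _ hj)))
  have h8 := mem_center_iff.1 ((hf (i⁻¹ * j)).1 (by rw [map_mul, map_inv, this, inv_mul_cancel])) i
  rw [mul_inv_cancel_left, mul_assoc, eq_inv_mul_iff_mul_eq] at h8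
  exact h7 h8

end H82
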