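import Mathlib
import Cfsg.Agent.Lib.Syl2.PronMob
import Cfsg.Agent.Lib.Spor55.FusSimple
import Cfsg.Agent.Lib.Unitary.Order

/-!
# Elements of odd order normalising a Sylow `2`-subgroup of `GL₂(q)` or `GU₂(q)`
-/

set_option autoImplicit false

namespace H82

open Subgroup H61 Matrix

variable {K : Type*} [Field K]

theorem exists_of_commute {y m : Matrix (Fin 2) (Fin 2) K}
    (hy : y 0 1 ≠ 0 ∨ y 1 0 ≠ 0 ∨ y 0 0 - y 1 1 ≠ 0) (h : m * y = y * m) :
    ∃ α β : K, m = α • (1 : Matrix (Fin 2) (Fin 2) K) + β • y := by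
  have h1 := congrFun (congrFun h 0) 0
  have h2 := congrFun (congrFun h 0) 1
  have h3 := congrFun (congrFun h 1) 0
  simp only [Matrix.mul_apply, Fin.sum_univ_two] at h1 h2 h3
  obtain ⟨β, e1, e2, e3⟩ : ∃ β, m 0 1 = β * y 0 1 ∧ m 1 0 = β * y 1 0 ∧
      m 0 0 - m 1 1 = β * (y 0 0 - y 1 1) := by
    rcases hy with hy | hy | hy
    · refine ⟨m 0 1 / y 0 1, ?_, ?_, ?_⟩ <;> field_simp
      · linear_combination -h1
      · linear_combination h2
    · refine ⟨m 1 0 / y 1 0, ?_, ?_, ?_⟩ <;> field_simp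
      · linear_combination h1
      · linear_combination -h3
    · refine ⟨(m 0 0 - m 1 1) / (y 0 0 - y 1 1), ?_, ?_, ?_⟩ <;> field_simp
      · linear_combination -h2
      · linear_combination h3
  refine ⟨m 1 1 - β * y 1 1, β, ?_⟩
  ext i j
  fin_cases i <;> fin_cases j <;> simp [e1, e2]
  linear_combination e3

/-- elements of order four of `SL₂` -/
def O4 (y : GL (Fin 2) K) : Prop := y ∈ slK (Fin 2) K ∧ y ^ 2 = -1

theorem O4.det {y : GL (Fin 2) K} (h : O4 y) : y.val.det = 1 := congrArg Units.val h.1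

theorem O4.sq {y : GL (Fin 2) K} (h : O4 y) : y.val * y.val = -1 := by
  simpa [pow_two] using congrArg Units.val h.2

theorem O4.conj {y : GL (Fin 2) K} (h : O4 y) (g : GL (Fin 2) K) : O4 (g * y * g⁻¹) :=
  ⟨(MonoidHom.normal_ker _).conj_mem _ h.1 g, by rw [conj_pow, h.2]; simp⟩

theorem O4.exists_of_comm (h2 : (2 : K) ≠ 0) {y m : GL (Fin 2) K} (hy : O4 y) (h : m * y = y * m) :
    ∃ α β : K, m.val = α • (1 : Matrix (Fin 2) (Fin 2) K) + β • y.val := by
  refine exists_of_commute ?_ (congrArg Units.val h)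
  by_contra h'
  push Not at h'
  have h3 := hy.det
  have h4 := congrFun (congrFun hy.sq 0) 0
  simp only [Matrix.mul_apply, Fin.sum_univ_two, det_fin_two, h'.1] at h3 h4
  simp at h4
  exact h2 (by linear_combination h4 - h3 - y.val 0 0 * h'.2.2)

theorem O4.comm (h2 : (2 : K) ≠ 0) {y m n : GL (Fin 2) K} (hy : O4 y) (h : m * y = y * m)
    (h' : n * y = y * n) : m * n = n * m := by
  obtain ⟨α, β, e⟩ := hy.exists_of_comm h2 h
  have := congrArg Units.val h'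
  refine Units.ext ?_
  simp only [Units.val_mul] at this ⊢
  rw [e]
  simp [mul_add, add_mul, this]

theorem gl2_ne_neg (h2 : (2 : K) ≠ 0) (g : GL (Fin 2) K) : g ≠ -g := fun h => by
  have : (1 : GL (Fin 2) K) = -1 := mul_right_cancel (b := g) (by simpa using h)
  have := congrArg (fun g : GL (Fin 2) K => g.val 0 0) this
  simp at this
  exact h2 (by linear_combination this)

theorem O4.scalar (h2 : (2 : K) ≠ 0) {y m δ : GL (Fin 2) K} (hy : O4 y) (h : m * y = y * m)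
    (hδ : δ * y = -(y * δ)) (h' : m * δ = δ * m) :
    ∃ c : Kˣ, m = GeneralLinearGroup.scalar (Fin 2) c := by
  obtain ⟨α, β, e⟩ := hy.exists_of_comm h2 h
  have h3 := congrArg Units.val h'
  have h4 := congrArg Units.val hδ
  simp only [Units.val_mul, Units.val_neg] at h3 h4
  rw [e] at h3
  simp only [mul_add, add_mul, smul_mul_assoc, mul_smul_comm, h4, one_mul, mul_one,
    add_right_inj, smul_neg] at h3
  have h5 : β = 0 := by
    by_contra h5
    rw [← smul_neg] at h3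
    exact gl2_ne_neg h2 (y * δ) (Units.ext (smul_right_injective _ h5 h3))
  rw [h5, zero_smul, add_zero] at e
  have h6 : α ≠ 0 := fun h6 => m.det_ne_zero (by simp [e, h6])
  exact ⟨Units.mk0 α h6, Units.ext (by rw [e]; ext i j; simp [Matrix.one_apply, diagonal_apply])⟩

theorem O4.eq_of_comm (h2 : (2 : K) ≠ 0) {y m : GL (Fin 2) K} (hy : O4 y) (hm : O4 m)
    (h : m * y = y * m) : m = y ∨ m = -y := by
  have h3 : (m * y⁻¹) ^ 2 = 1 := by
    rw [(Commute.inv_right h).mul_pow, inv_pow, hm.2, hy.2, mul_inv_cancel]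
  rcases GL2_eq_of_sq h2 (mul_mem hm.1 (inv_mem hy.1)) h3 with e | e
  · exact Or.inl (mul_inv_eq_one.1 e)
  · exact Or.inr (by rw [mul_inv_eq_iff_eq_mul.1 e]; simp)

/-- the properties of a Sylow `2`-subgroup of `GL₂(q)` or `GU₂(q)` -/
structure Good2 (D : Subgroup (GL (Fin 2) K)) : Prop where
  pgrp : IsPGroup 2 D
  q8 : ∃ a ∈ D, ∃ b ∈ D, O4 a ∧ O4 b ∧ a * b = -(b * a)
  nsq : ∃ δ ∈ D, ∀ c : Kˣ, GeneralLinearGroup.scalar (Fin 2) c ∈ D →
    GeneralLinearGroup.det δ ≠ c ^ 2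

theorem exists_O4 [Finite K] (h2 : (2 : K) ≠ 0) {D : Subgroup (GL (Fin 2) K)} (hD : IsPGroup 2 D)
    {a : GL (Fin 2) K} (ha : a ∈ D) (ha' : O4 a) :
    ∃ y ∈ D, O4 y ∧ ∀ δ ∈ D, δ * y = y * δ ∨ δ * y = -(y * δ) := by
  have : (zpowers (-1 : GL (Fin 2) K)).Normal := ⟨fun x hx g => by
    rwa [mem_center_iff.1 (zpowers_le.2 GL2_neg_one_central hx) g, mul_inv_cancel_right]⟩
  let π := QuotientGroup.mk' (zpowers (-1 : GL (Fin 2) K))
  have hπ : ∀ a b, π a = π b → a = b ∨ a = -b := fun a b h => by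
    obtain ⟨_, ⟨n, rfl⟩, rfl⟩ := (QuotientGroup.mk'_eq_mk' _).1 h
    rcases Int.even_or_odd n with h | h
    · exact Or.inl (by simp [h.neg_one_zpow])
    · exact Or.inr (by simp [h.neg_one_zpow])
  have h4 : ∀ y, O4 y → π y ≠ 1 := fun y hy h => by
    have := hy.2
    rcases hπ y 1 h with rfl | rfl <;> exact gl2_ne_neg h2 1 (by simpa using this)
  obtain ⟨_, ⟨y, hy, rfl⟩, h5, h6, h7⟩ := H55.Fus.Closed.exists_central (hD.map π)
    (T := (D ⊓ slK (Fin 2) K).map π) ⟨map_mono inf_le_left, by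
      rintro _ ⟨x, hx, rfl⟩ g ⟨d, hd, e⟩
      obtain ⟨g, rfl⟩ := QuotientGroup.mk'_surjective _ g
      refine ⟨d, ⟨hd, ?_⟩, e⟩
      have h3 := (MonoidHom.normal_ker _).conj_mem _ hx.2 g
      rcases hπ d (g * x * g⁻¹) e with rfl | rfl
      · exact h3
      · rw [← neg_one_mul, ← ha'.2]
        exact mul_mem (pow_mem ha'.1 2) h3⟩
    fun h => h4 a ha' (mem_bot.1 (h ▸ mem_map_of_mem π ⟨ha, ha'.1⟩))
  refine ⟨y, hy.1, ⟨hy.2, (hπ (y ^ 2) 1 h6).resolve_left fun h => h5 ?_⟩,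
    fun δ hδ => hπ _ _ (h7 _ (mem_map_of_mem π hδ))⟩
  rcases GL2_eq_of_sq h2 hy.2 h with rfl | rfl
  · rfl
  · exact (QuotientGroup.eq_one_iff _).2 (mem_zpowers _)

theorem comm_of_odd {G : Type*} [Group G] {f y : G} (ho : Odd (orderOf f))
    (h : f ^ 2 * y = y * f ^ 2) : f * y = y * f :=
  mem_centralizer_singleton_iff.1 (zpowers_le.2 (mem_centralizer_singleton_iff.2 h)
    (mem_zpowers_pow_iff.2 (Nat.coprime_two_left.2 ho)))

theorem Good2.scalar [Finite K] (h2 : (2 : K) ≠ 0) {D : Subgroup (GL (Fin 2) K)} (hD : Good2 D)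
    {f : GL (Fin 2) K} (ho : Odd (orderOf f)) (hf : ∀ δ ∈ D, f * δ * f⁻¹ ∈ D) :
    ∃ c : Kˣ, f = GeneralLinearGroup.scalar (Fin 2) c := by
  obtain ⟨a, ha, b, hb, ha', -, hab⟩ := hD.q8
  obtain ⟨y, hy, hy', h1⟩ := exists_O4 h2 hD.pgrp ha ha'
  have hn : f ∈ normalizer (D : Set (GL (Fin 2) K)) := mem_normalizer_fintype hf
  have h3 : ∀ δ ∈ D, δ * (f * y * f⁻¹) = f * y * f⁻¹ * δ ∨
      δ * (f * y * f⁻¹) = -(f * y * f⁻¹ * δ) := fun δ hδ => by
    have e : δ * (f * y * f⁻¹) = f * (f⁻¹ * δ * f * y) * f⁻¹ := by group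
    rcases h1 _ ((mem_normalizer_iff''.1 hn δ).1 hδ) with h | h <;> rw [e, h] <;> simp [mul_assoc]
  have hz := hy'.conj f
  have hzD := hf y hy
  have h4 : y * (f * y * f⁻¹) = f * y * f⁻¹ * y := by
    refine (h3 y hy).resolve_right fun h4 => ?_
    generalize f * y * f⁻¹ = z at h3 hz hzD h4
    have h5 : z * y = -(y * z) := by rw [h4, neg_neg]
    obtain ⟨δ, hδ, h6⟩ := hD.nsq
    have key : ∀ r ∈ D ⊓ slK (Fin 2) K, r * δ * y = y * (r * δ) → r * δ * z = z * (r * δ) →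
        False := fun r hr e1 e2 => by
      obtain ⟨c, hc⟩ := hy'.scalar h2 e1 h5 e2
      refine h6 c (hc ▸ mul_mem hr.1 hδ) ?_
      have := congrArg GeneralLinearGroup.det hc
      rw [map_mul, show GeneralLinearGroup.det r = 1 from hr.2, one_mul] at this
      rw [this]
      exact Units.ext (by simp)
    rcases h1 δ hδ with e1 | e1 <;> rcases h3 δ hδ with e2 | e2
    · exact key 1 (one_mem _) (by simpa using e1) (by simpa using e2)
    · exact key y ⟨hy, hy'.1⟩ (by rw [mul_assoc, e1])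
        (by rw [mul_assoc, e2, mul_neg, ← mul_assoc, h4, neg_mul, neg_neg, mul_assoc])
    · exact key z ⟨hzD, hz.1⟩ (by rw [mul_assoc, e1, mul_neg, ← mul_assoc, h5, neg_mul, neg_neg,
        mul_assoc]) (by rw [mul_assoc, e2])
    · exact key (y * z) ⟨mul_mem hy hzD, mul_mem hy'.1 hz.1⟩
        (by rw [mul_assoc, e1, mul_neg, mul_assoc, ← mul_assoc z, h5]; simp [mul_assoc])
        (by rw [mul_assoc, e2, mul_neg, ← mul_assoc, ← mul_assoc z, ← mul_assoc z, h5]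
            simp [mul_assoc])
  have h5 : f * y = y * f := comm_of_odd ho (by
    rw [← mul_inv_eq_iff_eq_mul, show f ^ 2 * y * (f ^ 2)⁻¹ = f * (f * y * f⁻¹) * f⁻¹ by
      simp [sq, mul_assoc]]
    rcases hy'.eq_of_comm h2 hz h4.symm with e | e
    · rw [e, e]
    · rw [e, mul_neg, neg_mul, e, neg_neg])
  obtain ⟨δ, hδ, h6⟩ : ∃ δ ∈ D, δ * y = -(y * δ) := by
    by_contra h6
    push Not at h6
    have := hy'.comm h2 ((h1 a ha).resolve_right (h6 a ha)) ((h1 b hb).resolve_right (h6 b hb))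
    exact gl2_ne_neg h2 _ (this.symm.trans hab)
  have h7 : Commute f (δ * f⁻¹ * δ⁻¹) := hy'.comm h2 h5 (by
    have e1 : δ⁻¹ * y = -(y * δ⁻¹) := by
      rw [inv_mul_eq_iff_eq_mul, mul_neg, ← mul_assoc, h6]; simp
    have e2 : f⁻¹ * y = y * f⁻¹ := (Commute.inv_left h5)
    rw [mul_assoc, e1, mul_neg, mul_assoc, ← mul_assoc f⁻¹, e2, ← mul_assoc, ← mul_assoc, h6]
    simp [mul_assoc])
  obtain ⟨l, hl⟩ := hD.pgrp ⟨_, mul_mem (hf δ hδ) (inv_mem hδ)⟩
  have h8 : f * (δ * f⁻¹ * δ⁻¹) = 1 := eq_one_of_odd_of_two (k := l) ho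
    (by rw [h7.mul_pow, conj_pow, inv_pow, pow_orderOf_eq_one]; simp)
    (by simpa [mul_assoc] using congrArg Subtype.val hl)
  refine hy'.scalar h2 h5 h6 ?_
  rw [← mul_inv_eq_iff_eq_mul, ← mul_inv_eq_one, ← h8]
  group

/-- the matrix `diag (c, 1)` -/
def dg1 : Kˣ →* GL (Fin 2) K := H10.diagGL.comp (MonoidHom.mulSingle (fun _ : Fin 2 => Kˣ) 0)

theorem dg1_val (c : Kˣ) : (dg1 c).val = !![(c : K), 0; 0, 1] := by
  ext i j
  fin_cases i <;> fin_cases j <;> simp [dg1, H10.diagGL]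

theorem det_dg1 (c : Kˣ) : GeneralLinearGroup.det (dg1 c) = c :=
  Units.ext (by simp [dg1_val])

theorem good2_of [Finite K] (h2 : (2 : K) ≠ 0) {D G : Subgroup (GL (Fin 2) K)} (hD : SylIn 2 D G)
    (hq : ∃ a ∈ G, ∃ b ∈ G, O4 a ∧ O4 b ∧ a * b = -(b * a))
    (hd : ∀ c : Kˣ, GeneralLinearGroup.scalar (Fin 2) c ∈ G → dg1 c ∈ G) : Good2 D := by
  obtain ⟨a, ha, b, hb, ha', hb', hab⟩ := hq
  have h1 : ∀ y : GL (Fin 2) K, O4 y → IsPGroup 2 (zpowers y) := fun y hy =>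
    IsPGroup.iff_card.2 (by
      rw [Nat.card_zpowers]
      obtain ⟨k, -, hk⟩ := (Nat.dvd_prime_pow Nat.prime_two).1 (orderOf_dvd_of_pow_eq_one
        (x := y) (n := 2 ^ 2) (by rw [pow_two 2, pow_mul, hy.2]; simp))
      exact ⟨k, hk⟩)
  refine ⟨hD.pgrp, ?_, ?_⟩
  · have h0 : b ∈ normalizer (zpowers a : Set (GL (Fin 2) K)) := mem_normalizer_fintype (by
      rintro _ ⟨n, rfl⟩
      rw [← conj_zpow, ← neg_neg (b * a), ← hab, neg_mul, mul_inv_cancel_right, ← neg_one_mul a,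
        ← ha'.2]
      exact zpow_mem (mul_mem (pow_mem (mem_zpowers a) 2) (mem_zpowers a)) n)
    obtain ⟨k, -, hk⟩ := hD.exists_conj (IsPGroup.to_sup_of_normal_left' (h1 a ha') (h1 b hb')
      (zpowers_le.2 h0)) (sup_le (zpowers_le.2 ha) (zpowers_le.2 hb))
    exact ⟨_, hk a (mem_sup_left (mem_zpowers a)), _, hk b (mem_sup_right (mem_zpowers b)),
      ha'.conj k, hb'.conj k, by rw [conj_mul, conj_mul, hab]; simp⟩
  obtain ⟨⟨δ, hδ⟩, h3⟩ := Finite.exists_max fun δ : D => orderOf (GeneralLinearGroup.det δ.1)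
  have h4 : ∀ c : Kˣ, GeneralLinearGroup.scalar (Fin 2) c ∈ G → ∀ k, c ^ 2 ^ k = 1 →
      orderOf c ≤ orderOf (GeneralLinearGroup.det δ) := fun c hc k hk => by
    obtain ⟨g, -, hg⟩ := hD.exists_conj_mem (hd c hc) (k := k) (by rw [← map_pow, hk, map_one])
    simpa [det_dg1] using h3 ⟨_, hg⟩
  refine ⟨δ, hδ, fun c hc e => ?_⟩
  obtain ⟨k, hk⟩ := hD.pgrp ⟨_, hc⟩
  have hk' : c ^ 2 ^ k = 1 := by
    have : GeneralLinearGroup.scalar (Fin 2) (c ^ 2 ^ k) = 1 := by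
      rw [map_pow]; exact congrArg Subtype.val hk
    exact Units.ext (by simpa [diagonal_pow] using congrArg (fun g : GL (Fin 2) K => g.val 0 0) this)
  have h5 := h4 c (hD.le hc) k hk'
  have h6 := h4 (-1) (by
    have : GeneralLinearGroup.scalar (Fin 2) (-1 : Kˣ) = -1 := Units.ext (by
      ext i j; fin_cases i <;> fin_cases j <;> simp)
    rw [this, ← ha'.2]; exact pow_mem ha 2) 1 (by simp)
  have h7 : (-1 : Kˣ) ≠ 1 := fun h => h2 (by
    have := congrArg Units.val h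
    simp at this
    linear_combination -this)
  rw [orderOf_eq_prime (p := 2) (by simp) h7] at h6
  rw [e, orderOf_pow' _ two_ne_zero] at h5 h6
  obtain ⟨j, -, hj⟩ := (Nat.dvd_prime_pow Nat.prime_two).1 (orderOf_dvd_of_pow_eq_one hk')
  rw [hj] at h5 h6
  obtain _ | j := j
  · simp at h6
  · rw [Nat.gcd_eq_right (dvd_pow_self 2 j.succ_ne_zero)] at h5
    have := Nat.two_pow_pos (j + 1)
    omega

theorem good2_GL [Finite K] (hq : Odd (Nat.card K)) {D : Subgroup (GL (Fin 2) K)}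
    (hD : SylIn 2 D ⊤) : Good2 D := by
  obtain ⟨a, ha, b, hb, h1, h3, h4⟩ := exists_q8_GL hq hD
  refine good2_of (H10.two_ne_zero_of_odd_card hq) hD
    ⟨a, trivial, b, trivial, ⟨ha.2, h1⟩, ⟨hb.2, h3⟩, ?_⟩ fun _ _ => trivial
  apply mul_left_cancel (a := a * b)
  rw [← sq, h4, mul_neg, mul_assoc, ← mul_assoc b, ← sq, h3, neg_one_mul, mul_neg, ← sq, h1]
  simp

open H11.U in
theorem good2_GU [Fintype K] (q : ℕ) [IsSq K q] (h2 : (2 : K) ≠ 0) {D : Subgroup (GL (Fin 2) K)}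
    (hD : SylIn 2 D (Cfsg.GU 2 K q)) : Good2 D := by
  obtain ⟨s, t, h1, hs, ht⟩ : ∃ s t : K, s ^ 2 + t ^ 2 = -1 ∧ cj q s = -s ∧ cj q t = -t := by
    obtain ⟨i, hi⟩ : IsSquare (-1 : K) := by
      rw [FiniteField.isSquare_neg_one_iff, IsSq.card_eq (q := q)]
      rcases Nat.even_or_odd' q with ⟨k, rfl | rfl⟩ <;> ring_nf <;> omega
    have h3 : (cj q i - i) * (cj q i + i) = 0 := by
      have := congrArg (cj q) hi
      rw [map_mul, map_neg, map_one] at this
      linear_combination hi - this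
    rcases mul_eq_zero.1 h3 with h | h
    · obtain ⟨d, hd, hd'⟩ := exists_trace_zero K q
      have hi0 : i ≠ 0 := fun e => by simp [e] at hi
      refine ⟨(d - d⁻¹) / 2, (d + d⁻¹) / (2 * i), ?_, ?_, ?_⟩
      · field_simp
        linear_combination (-(d ^ 2 - 1) ^ 2 - 4 * d ^ 2) * hi
      · rw [map_div₀, map_sub, map_inv₀, hd', map_ofNat]; ring
      · rw [map_div₀, map_add, map_inv₀, hd', map_mul, map_ofNat, sub_eq_zero.1 h]; ring
    · exact ⟨i, 0, by linear_combination -hi, eq_neg_of_add_eq_zero_left h, by simp⟩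
  refine good2_of h2 hD ⟨GeneralLinearGroup.mkOfDetNeZero !![0, 1; -1, 0] (by simp), ?_,
    GeneralLinearGroup.mkOfDetNeZero !![s, t; t, -s] (by
      rw [det_fin_two_of, show s * -s - t * t = 1 by linear_combination -h1]; simp), ?_,
    ⟨Units.ext (by simp), Units.ext ?_⟩, ⟨Units.ext ?_, Units.ext ?_⟩, Units.ext ?_⟩ fun c hc => ?_
  · refine mem_GU.2 (isIso_iff.2 ?_)
    ext i j
    fin_cases i <;> fin_cases j <;> simp [Matrix.mul_apply]
  · refine mem_GU.2 (isIso_iff.2 ?_)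
    ext i j
    fin_cases i <;> fin_cases j <;> simp [Matrix.mul_apply, hs, ht] <;>
      first | ring1 | linear_combination -h1
  · ext i j
    fin_cases i <;> fin_cases j <;> simp [pow_two]
  · simp
    linear_combination -h1
  · ext i j
    fin_cases i <;> fin_cases j <;> simp [pow_two] <;> first | ring1 | linear_combination h1
  · ext i j
    fin_cases i <;> fin_cases j <;> simp
  · have := congrFun (congrFun (isIso_iff.1 (mem_GU.1 hc)) 0) 0
    refine mem_GU.2 (isIso_iff.2 ?_)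
    rw [dg1_val]
    ext i j
    fin_cases i <;> fin_cases j <;> simp [Matrix.mul_apply]
    simpa [Matrix.mul_apply] using this

end H82
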