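import Mathlib
import Cfsg.Agent.Lib.ClChev.ClsA
import Cfsg.Agent.Lib.FGS.Pronormal

/-!
# Overgroups of Sylow subgroups in the defining characteristic are pronormal
-/

set_option autoImplicit false

namespace H82

open Cfsg H13 H13.BN H62.St H62.LB H38 H39

section

variable {p : ℕ} [Fact p.Prime] {G : Type*} [Group G] [Finite G] (S : SBN p G)

theorem B_le_normalizer (hab : ∀ a ∈ S.P.B ⊓ S.P.N, ∀ b ∈ S.P.B ⊓ S.P.N, a * b = b * a)
    {M : Subgroup G} (hM : S.U ≤ M) : S.P.B ≤ Subgroup.normalizer (M : Set G) := by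
  have hG := invGen S.P
  let C : Subgroup G := ⨅ t ∈ S.P.B ⊓ S.P.N, M.comap (MulAut.conj t).toMonoidHom
  have mem : ∀ g, g ∈ C ↔ ∀ t ∈ S.P.B ⊓ S.P.N, t * g * t⁻¹ ∈ M := fun g => by
    simp only [C, Subgroup.mem_iInf]; rfl
  have hC : S.U ≤ C := fun u hu => (mem u).2 fun t ht => hM (S.split.conj t ht.1 u hu)
  have hCM : C ≤ M := fun g hg => by simpa using (mem g).1 hg 1 (one_mem _)
  have key : ∀ w, ∀ g ∈ M, g ∈ cell S.P w → ∃ n ∈ S.P.N, n ∈ C ∧ n ∈ cell S.P w := by
    intro w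
    induction hn : len (gen S.P) w generalizing w with
    | zero =>
      rw [hG.eq_one_of_len_eq_zero hn]
      exact fun _ _ _ => ⟨1, one_mem _, one_mem _, (mem_cell_one _).2 (one_mem _)⟩
    | succ k ih =>
      intro g hg hw
      obtain ⟨s, v, rfl, e⟩ := hG.exists_left_descent hn
      obtain ⟨n, hn1, hn2, hn3⟩ := S.exists_N_of_mem hM hg hw
      obtain ⟨x, hx, hx'⟩ := exists_of_not_pos (s := s) (w := gen S.P s * v)
        (by rw [pos_iff, hG.cancel_left]; omega) hn3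
      obtain ⟨β, hβ, β', hβ', e2⟩ := exists_eq_of_mem_cell hn3 hx'
      obtain ⟨u, hu, h, hh, rfl⟩ := S.split.mul β' hβ'
      have h1 : n * u * n⁻¹ ∈ cell S.P (gen S.P s) := by
        have := cell_mul_mem (mul_mem_cell (inv_mem hβ) hx) (inv_mem (S.P.conj_mem n hn1 h hh))
        have e3 : x = β * n * (u * h) * n⁻¹ := by rw [← e2, mul_inv_cancel_right]
        rw [e3] at this
        simpa [mul_assoc] using this
      have h2 : n * u * n⁻¹ ∈ C := (mem _).2 fun t ht => by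
        have := mul_mem (mul_mem hn2 (hM (S.split.conj _ (S.P.conj_mem _ (inv_mem hn1) t ht) u hu)))
          (inv_mem hn2)
        simpa [mul_assoc] using this
      obtain ⟨a, ha, ha', ha''⟩ := S.exists_N_of_mem hC h2 h1
      have h3 := mul_mem_cell_N ha hn1 ha'' hn3
      rw [hG.cancel_left] at h3
      obtain ⟨b, hb, hb', hb''⟩ := ih v e _ (mul_mem (hCM ha') hn2) h3
      exact ⟨a * b, mul_mem ha hb, mul_mem ha' hb', mul_mem_cell_N ha hb ha'' hb''⟩
  have hMC : M ≤ C := fun g hg => by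
    obtain ⟨w, hw⟩ := exists_mem_cell (P := S.P) g
    obtain ⟨n, hn, hn', hn''⟩ := key w g hg hw
    obtain ⟨u, hu, h⟩ := S.exists_U hn hn'' hw
    obtain ⟨v, hv, k, hk, e⟩ := S.split.mul _ h
    have h1 := mul_mem (mul_mem (hC hu) hn') (hC hv)
    have e' : g = u * n * v * k := by rw [mul_assoc _ v, ← e, mul_inv_cancel_left]
    have h2 : k ∈ M := (mul_mem_cancel_left (hCM h1)).1 (e' ▸ hg)
    rw [e']
    exact mul_mem h1 ((mem k).2 fun t ht => by rwa [hab t ht k hk, mul_inv_cancel_right])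
  intro b hb
  obtain ⟨u, hu, t, ht, rfl⟩ := S.split.mul b hb
  exact mul_mem (Subgroup.le_normalizer (hM hu))
    (Subgroup.mem_normalizer_fintype fun g hg => (mem g).1 (hMC hg) t ht)

theorem pronormal_sbn (hab : ∀ a ∈ S.P.B ⊓ S.P.N, ∀ b ∈ S.P.B ⊓ S.P.N, a * b = b * a)
    {M : Subgroup G} (hM : ¬ p ∣ M.index) : IsPronormal M := by
  obtain ⟨g, hg⟩ := S.exists_conj_of_index hM
  obtain ⟨T, hT⟩ := S.split.exists_sylow
  have := H77.isPronormal_conj (H77.isPronormal_of_normalizer hg (hT ▸ H77.isPronormal_sylow T)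
    fun x hx => H77.conjIn_of_mem_normalizer
      (B_le_normalizer S hab hg (S.split.normalizer_eq ▸ hx))) g⁻¹
  rwa [← H1.conj_smul_eq_map, H1.conj_inv_smul_conj_smul] at this

end

theorem pronormal_mod {ι l : Type} [Fintype l] [DecidableEq l] [Finite ι] {R : RS ι l} {K : Type*}
    [Field K] {G : Type*} [Group G] {E : Elts R K G} {T : Tw E} {Q : Type*} [Group Q] [Finite Q]
    (M : Mod T Q) (hT : T.Good) [Finite K] (h3 : E.R3) (p : ℕ) [Fact p.Prime] [CharP K p]
    {H : Subgroup Q} (hH : ¬ p ∣ H.index) : IsPronormal H :=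
  pronormal_sbn (M.sbn hT h3 p) (fun _ ha _ hb => M.inj (by
    rw [map_mul, map_mul]
    exact Elts.H_comm h3 (T.hF.mem_H_of_mem_B ha.2 ha.1) (T.hF.mem_H_of_mem_B hb.2 hb.1))) hH

theorem pronormal_of_comap {G G' : Type*} [Group G] [Group G'] {f : G →* G'}
    (hf : Function.Surjective f) {H : Subgroup G'} (h : IsPronormal (H.comap f)) :
    IsPronormal H := by
  rw [H77.isPronormal_iff] at h ⊢
  intro g
  obtain ⟨g, rfl⟩ := hf g
  have := (h g).map f
  rwa [Subgroup.map_comap_eq_self_of_surjective hf] at this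

variable (p : ℕ) [Fact p.Prime] {F : Type*} [Field F] [Fintype F] [CharP F p]

theorem pronormal_SL_char (n : ℕ) {H : Subgroup (Matrix.SpecialLinearGroup (Fin (n + 1)) F)}
    (hH : ¬ p ∣ H.index) : IsPronormal H :=
  pronormal_mod (modTriv H64.TA.faith H64.TA.top) (good_triv _ _) H64.TA.r3 p hH

theorem pronormal_SU_char (q : ℕ) [H11.U.IsSq F q] (n : ℕ) {H : Subgroup (SU (n + 1) F q)}
    (hH : ¬ p ∣ H.index) : IsPronormal H :=
  pronormal_mod (H62.CC.exists_mod_SU p q n).some (H62.CC.good_SU F q _) H64.TA.r3 p hH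

end H82
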