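import Mathlib
import Cfsg.Agent.Lib.Syl2.PronGL2
import Cfsg.Agent.Lib.Syl2.PronBN
import Cfsg.Agent.Lib.SymSylow.Two
import Cfsg.Agent.Lib.Syl2.Orth

/-!
# Normalisers of Sylow `2`-subgroups of `SL_d(q)` and `SU_d(q)`, `d` a power of two
-/

set_option autoImplicit false

namespace H82

open Subgroup H61 Matrix Cfsg
open Equiv (Perm)

section blocks

variable {K : Type*} [Field K] {β ι J : Type*} [Fintype β] [Fintype ι] [Fintype J]
  [DecidableEq β] [DecidableEq ι] [DecidableEq J] (e : β × ι ⊕ Empty ≃ J)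

/-- block coordinates -/
def co (K : Type*) [Field K] (e : β × ι ⊕ Empty ≃ J) : (J → K) ≃ₗ[K] (ι → β → K) where
  toFun v i b := v (e (.inl (b, i)))
  invFun w y := Sum.elim (fun z => w z.2 z.1) Empty.elim (e.symm y)
  map_add' _ _ := rfl
  map_smul' _ _ := rfl
  left_inv v := funext fun y => by
    obtain ⟨(⟨a, b⟩ | a), rfl⟩ := e.surjective y
    · simp
    · exact a.elim
  right_inv w := funext fun i => funext fun b => by simp

/-- the action in block coordinates -/
def act (e : β × ι ⊕ Empty ≃ J) : GL J K →* ((ι → β → K) ≃ₗ[K] (ι → β → K)) where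
  toFun g := ((co K e).symm.trans (GeneralLinearGroup.toLin g).toLinearEquiv).trans (co K e)
  map_one' := LinearEquiv.ext fun v => by simp
  map_mul' a b := LinearEquiv.ext fun v => by simp

theorem act_co (g : GL J K) (v : J → K) : act e g (co K e v) = co K e (g.val *ᵥ v) := by
  simp [act]

theorem act_injective : Function.Injective (act (K := K) e) := fun a b h => gl_ext fun v =>
  (co K e).injective (by rw [← act_co, ← act_co, h])

theorem act_mul (a b : GL J K) (v : ι → β → K) : act e (a * b) v = act e a (act e b v) := by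
  rw [map_mul]; rfl

theorem act_ext {a b : GL J K} (h : ∀ i u, act e a (Pi.single i u) = act e b (Pi.single i u)) :
    a = b := act_injective e (LinearEquiv.toLinearMap_injective (LinearMap.pi_ext h))

variable [Nonempty β]

theorem act_Phi (f : ι → GL β K) (c : GL Empty K) (v : ι → β → K) (i : ι) :
    act e ((glWr K e).Φ (f, c)) v i = (f i).val *ᵥ v i := by
  obtain ⟨v, rfl⟩ := (co K e).surjective v
  rw [act_co, glWr_Phi_val]
  exact funext fun b => blk_mulVec_inl e _ _ v b i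

theorem act_tau (σ : Perm ι) (v : ι → β → K) (i : ι) : act e ((glWr K e).τ σ) v i = v (σ⁻¹ i) := by
  obtain ⟨v, rfl⟩ := (co K e).surjective v
  rw [act_co, glWr_tau_mulVec]
  exact funext fun b => congrArg v (blkPerm_inl e σ⁻¹ b i)

theorem act_Phi_single (f : ι → GL β K) (c : GL Empty K) (i : ι) (u : β → K) :
    act e ((glWr K e).Φ (f, c)) (Pi.single i u) = Pi.single i ((f i).val *ᵥ u) := by
  funext j
  rw [act_Phi]
  by_cases h : j = i
  · subst h; simp
  · simp [h]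

theorem act_φ (k : ι) (d : GL β K) (v : ι → β → K) (i : ι) :
    act e ((glWr K e).φ k d) v i = if i = k then d.val *ᵥ v i else v i := by
  rw [Wr.φ_apply, act_Phi]
  by_cases h : i = k
  · subst h; simp
  · simp [h]

/-- `g` permutes the blocks as `σ` -/
def Blk (g : GL J K) (σ : ι → ι) : Prop :=
  ∀ i u, ∃ u', act e g (Pi.single i u) = Pi.single (σ i) u'

variable {e}

omit [Nonempty β] in
theorem Blk.mul {g h : GL J K} {σ ρ : ι → ι} (a : Blk e g σ) (b : Blk e h ρ) :
    Blk e (g * h) (σ ∘ ρ) := fun i u => by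
  obtain ⟨u', e1⟩ := b i u
  obtain ⟨u'', e2⟩ := a (ρ i) u'
  exact ⟨u'', by rw [act_mul, e1, e2]; rfl⟩

omit [Nonempty β] in
theorem Blk.pow {g : GL J K} {σ : Perm ι} (a : Blk e g σ) (n : ℕ) :
    Blk e (g ^ n) ⇑(σ ^ n) := by
  induction n with
  | zero => exact fun i u => ⟨u, by simp⟩
  | succ n ih => rw [pow_succ, pow_succ]; exact ih.mul a

theorem Blk.unique {g : GL J K} {σ ρ : ι → ι} (a : Blk e g σ) (b : Blk e g ρ) : σ = ρ := by
  funext i
  obtain ⟨u, e1⟩ := a i 1
  obtain ⟨u', e2⟩ := b i 1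
  by_contra h
  have h1 : u = 0 := by simpa [h] using congrFun (e1.symm.trans e2) (σ i)
  rw [h1, Pi.single_zero, map_eq_zero_iff _ (act e g).injective] at e1
  simpa using congrFun e1 i

theorem Blk.eq_one {g : GL J K} {σ : Perm ι} (a : Blk e g σ) {n : ℕ} (h : g ^ n = 1) : σ ^ n = 1 :=
  DFunLike.coe_injective ((a.pow n).unique (h ▸ fun i u => ⟨u, by simp⟩))

theorem blk_wr (f : ι → GL β K) (c : GL Empty K) (σ : Perm ι) :
    Blk e ((glWr K e).Φ (f, c) * (glWr K e).τ σ) σ := fun i u =>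
  ⟨(f (σ i)).val *ᵥ u, by
    rw [act_mul, ← act_Phi_single e f c]
    congr 1
    funext j
    rw [act_tau]
    by_cases h : j = σ i
    · subst h; simp
    · rw [Pi.single_eq_of_ne h, Pi.single_eq_of_ne fun h' => h (by rw [← h']; simp)]⟩

theorem Blk.exists_Phi {g : GL J K} (a : Blk e g id) : ∃ f, g = (glWr K e).Φ (f, 1) := by
  let A : ι → Matrix β β K := fun i => LinearMap.toMatrix'
    ((LinearMap.proj i) ∘ₗ (act e g).toLinearMap ∘ₗ LinearMap.single K (fun _ => β → K) i)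
  have hA : ∀ i u, act e g (Pi.single i u) = Pi.single i (A i *ᵥ u) := fun i u => by
    obtain ⟨u', h⟩ := a i u
    rw [LinearMap.toMatrix'_mulVec]
    simp [h]
  have hu : ∀ i, IsUnit (A i) := fun i => mulVec_injective_iff_isUnit.1 fun u v h =>
    Pi.single_injective (M := fun _ => β → K) i ((act e g).injective (by
      rw [hA, hA, show A i *ᵥ u = A i *ᵥ v from h]))
  exact ⟨fun i => (hu i).unit, act_ext e fun i u => by rw [act_Phi_single, hA]; rfl⟩

theorem eq_single_of_neg (h2 : (2 : K) ≠ 0) {k : ι} {v : ι → β → K}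
    (h : act e ((glWr K e).φ k (-1)) v = -v) : v = Pi.single k (v k) := by
  funext i
  by_cases hi : i = k
  · subst hi; simp
  rw [Pi.single_eq_of_ne hi]
  have := congrFun h i
  rw [act_φ, if_neg hi] at this
  funext b
  exact mul_left_cancel₀ h2 (by simpa [two_mul] using add_eq_zero_iff_eq_neg.2 (congrFun this b))

theorem eq_of_neg (h2 : (2 : K) ≠ 0) {x : GL J K} {k i j : ι}
    (hi : ∀ u, act e (x * (glWr K e).φ k (-1) * x⁻¹) (Pi.single i u) = -Pi.single i u)
    (hj : ∀ u, act e (x * (glWr K e).φ k (-1) * x⁻¹) (Pi.single j u) = -Pi.single j u) : i = j := by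
  by_contra hij
  let L : ((β → K) × (β → K)) →ₗ[K] (β → K) := (LinearMap.proj k) ∘ₗ (act e x⁻¹).toLinearMap ∘ₗ
    (LinearMap.single K (fun _ => β → K) i).coprod (LinearMap.single K (fun _ => β → K) j)
  have hL : Function.Injective L := (injective_iff_map_eq_zero L).2 fun ⟨u, v⟩ h => by
    have h1 : act e x⁻¹ (Pi.single i u + Pi.single j v) k = 0 := h
    have h3 := eq_single_of_neg h2 (k := k) (v := act e x⁻¹ (Pi.single i u + Pi.single j v))
      ((act e x).injective (by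
        rw [← act_mul, ← act_mul, map_add, hi, hj, map_neg, ← act_mul, mul_inv_cancel, map_one,
          ← neg_add]
        rfl))
    rw [h1, Pi.single_zero, map_eq_zero_iff _ (act e x⁻¹).injective] at h3
    exact Prod.ext (by simpa [hij] using congrFun h3 i) (by simpa [Ne.symm hij] using congrFun h3 j)
  have := LinearMap.finrank_le_finrank_of_injective hL
  have h3 := Fintype.card_pos (α := β)
  simp at this

end blocks

section two

variable {K : Type*} [Field K] {ι J : Type*} [Fintype ι] [Fintype J] [DecidableEq ι]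
  [DecidableEq J] {e : Fin 2 × ι ⊕ Empty ≃ J}

theorem perm_eq_one (h2 : (2 : K) ≠ 0) {x : GL J K} {k : ι} {a : GL (Fin 2) K} (ha : a ^ 2 = -1)
    {σ : Perm ι} (h : Blk e (x * (glWr K e).φ k a * x⁻¹) σ) : σ = 1 := by
  set s := x * (glWr K e).φ k a * x⁻¹ with hs
  have h1 : s ^ 2 = x * (glWr K e).φ k (-1) * x⁻¹ := by rw [conj_pow, ← map_pow, ha]
  have h4 : σ ^ 4 = 1 := h.eq_one (by
    rw [conj_pow, ← map_pow, show 4 = 2 * 2 from rfl, pow_mul, ha]; simp)
  have h3 : ∀ v, act e (s ^ 3) v - act e (s ^ 2) v = v - act e s v := fun v => by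
    obtain ⟨v, rfl⟩ := (act e x).surjective v
    simp only [hs, conj_pow, ← act_mul, inv_mul_cancel_right, ← map_pow]
    simp only [act_mul, ← map_sub]
    congr 1
    funext i
    rw [pow_succ a 2, ha]
    by_cases hi : i = k
    · simp only [Pi.sub_apply, act_φ, hi, if_true, Units.val_neg, Units.val_one, neg_mul, one_mul,
        neg_mulVec, one_mulVec]
      abel
    · simp [act_φ, hi]
  have key : ∀ i, σ i ≠ i → ∀ u, act e (s ^ 2) (Pi.single i u) = -Pi.single i u := fun i hi u => by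
    have h5 : (σ ^ 3) i ≠ i := fun h' => hi (by
      rw [← congrArg σ h', ← Perm.mul_apply, ← pow_succ', h4, Perm.one_apply])
    obtain ⟨u1, e1⟩ := h i u
    obtain ⟨u2, e2⟩ := h.pow 2 i u
    obtain ⟨u3, e3⟩ := h.pow 3 i u
    have := congrFun (h3 (Pi.single i u)) i
    rw [e1, e2, e3] at this
    simp only [Pi.sub_apply, Pi.single_eq_of_ne h5.symm, Pi.single_eq_of_ne hi.symm,
      Pi.single_eq_same, zero_sub, sub_zero] at this
    by_cases h6 : (σ ^ 2) i = i
    · rw [h6, Pi.single_eq_same] at this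
      rw [e2, h6, ← this, ← Pi.single_neg, neg_neg]
    · rw [Pi.single_eq_of_ne (Ne.symm h6), neg_zero] at this
      simp [← this]
  ext i
  by_contra hi
  exact hi (eq_of_neg h2 (h1 ▸ key _ fun h' => hi (σ.injective h')) (h1 ▸ key i hi))

theorem exists_conj_eq (h2 : (2 : K) ≠ 0) {x : GL J K} {k : ι} {a b : GL (Fin 2) K}
    (ha : a ^ 2 = -1) (hb : b ^ 2 = -1) (hab : a * b = -(b * a)) {σ ρ : Perm ι}
    (h : Blk e (x * (glWr K e).φ k a * x⁻¹) σ) (h' : Blk e (x * (glWr K e).φ k b * x⁻¹) ρ) :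
    ∃ i, x * (glWr K e).φ k (-1) * x⁻¹ = (glWr K e).φ i (-1) := by
  rw [perm_eq_one h2 ha h] at h
  rw [perm_eq_one h2 hb h'] at h'
  obtain ⟨f, hf⟩ := h.exists_Phi
  obtain ⟨g, hg⟩ := h'.exists_Phi
  have h1 : x * (glWr K e).φ k (-1) * x⁻¹ = (glWr K e).Φ (f ^ 2, 1) := by
    rw [← ha, map_pow, ← conj_pow, hf, ← map_pow]; simp
  have h3 : f * g = f ^ 2 * (g * f) := by
    have : (glWr K e).Φ ((f, 1) * (g, 1)) = (glWr K e).Φ ((f ^ 2, 1) * ((g, 1) * (f, 1))) := by
      rw [map_mul, map_mul, map_mul, ← hf, ← hg, ← h1, conj_mul, conj_mul, conj_mul, ← map_mul,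
        ← map_mul, ← map_mul, hab, neg_one_mul]
    exact congrArg Prod.fst ((glWr K e).Phi_injective this)
  have h4 : (f ^ 2) ^ 2 = 1 := by
    have : (glWr K e).Φ ((f ^ 2, 1) ^ 2) = (glWr K e).Φ 1 := by
      rw [map_pow, ← h1, conj_pow, ← map_pow]; simp
    exact congrArg Prod.fst ((glWr K e).Phi_injective this)
  have h5 : ∀ i, (f ^ 2) i = 1 ∨ (f ^ 2) i = -1 := fun i => GL2_eq_of_sq h2 (by
    have := congrArg GeneralLinearGroup.det (congrFun h3 i)
    rw [Pi.mul_apply, Pi.mul_apply, Pi.mul_apply, map_mul, map_mul, map_mul, mul_comm] at this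
    exact (mul_eq_right.1 this.symm)) (congrFun h4 i)
  obtain ⟨i, hi⟩ : ∃ i, (f ^ 2) i = -1 := by
    by_contra h6
    push Not at h6
    rw [show f ^ 2 = 1 from funext fun i => (h5 i).resolve_right (h6 i), Prod.mk_one_one, map_one,
      conj_eq_one_iff, Wr.φ_apply, ← map_one (glWr K e).Φ] at h1
    have := congrFun (congrArg Prod.fst ((glWr K e).Phi_injective h1)) k
    exact gl2_ne_neg h2 1 (by simpa using this.symm)
  refine ⟨i, h1.trans ?_⟩
  rw [Wr.φ_apply]
  refine congrArg (fun f => (glWr K e).Φ (f, 1)) (funext fun j => ?_)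
  by_cases hj : j = i
  · subst hj; rw [hi, Pi.mulSingle_eq_same]
  rw [Pi.mulSingle_eq_of_ne hj]
  refine (h5 j).resolve_right fun h6 => hj (eq_of_neg h2 (e := e) (x := x) (k := k)
    (fun u => ?_) fun u => ?_) <;> rw [h1, act_Phi_single]
  · simp [h6, neg_mulVec, Pi.single_neg]
  · simp [hi, neg_mulVec, Pi.single_neg]

/-- an element conjugating quaternion subgroups of the blocks into the monomial group is
monomial -/
theorem exists_blk (h2 : (2 : K) ≠ 0) {x : GL J K} {a b : GL (Fin 2) K}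
    (ha : a ^ 2 = -1) (hb : b ^ 2 = -1) (hab : a * b = -(b * a))
    (h : ∀ k, ∃ σ : Perm ι, Blk e (x * (glWr K e).φ k a * x⁻¹) σ)
    (h' : ∀ k, ∃ σ : Perm ι, Blk e (x * (glWr K e).φ k b * x⁻¹) σ) : ∃ σ : Perm ι, Blk e x σ := by
  choose s hs using fun k => exists_conj_eq h2 ha hb hab (h k).choose_spec (h' k).choose_spec
  have h1 : Function.Injective s := fun k l hkl => by
    have := congrFun (congrArg Prod.fst ((glWr K e).Phi_injective
      ((MulAut.conj x).injective ((hs k).trans (hkl ▸ (hs l).symm))))) k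
    by_contra h3
    exact gl2_ne_neg h2 1 (by simpa [h3] using this.symm)
  refine ⟨Equiv.ofBijective s (Finite.injective_iff_bijective.1 h1), fun k u =>
    ⟨_, eq_single_of_neg h2 (e := e) (k := s k) (v := act e x (Pi.single k u)) ?_⟩⟩
  rw [← hs, ← act_mul, inv_mul_cancel_right, act_mul, Wr.φ_apply, act_Phi_single, ← map_neg]
  simp [neg_mulVec, Pi.single_neg]

theorem eq_Phi_of_normalizes (h2 : (2 : K) ≠ 0) {D : Subgroup (GL (Fin 2) K)}
    {a b : GL (Fin 2) K} (ha : a ^ 2 = -1) (hb : b ^ 2 = -1) (hab : a * b = -(b * a))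
    {T : Subgroup (Perm ι)} (hT : SylIn 2 T ⊤) {x : GL J K} (ho : Odd (orderOf x))
    (h1 : ∀ k, x * (glWr K e).φ k a * x⁻¹ ∈ (glWr K e).sub D ⊥ T)
    (h3 : ∀ k, x * (glWr K e).φ k b * x⁻¹ ∈ (glWr K e).sub D ⊥ T)
    (h4 : ∀ ρ ∈ T, x * (glWr K e).τ ρ * x⁻¹ ∈ (glWr K e).sub D ⊥ T) :
    ∃ f, x = (glWr K e).Φ (f, 1) := by
  have key : ∀ g ∈ (glWr K e).sub D ⊥ T, ∃ σ ∈ T, Blk e g σ := fun g hg => by
    obtain ⟨f, c, σ, -, -, hσ, rfl⟩ := (glWr K e).mem_sub.1 hg
    exact ⟨σ, hσ, blk_wr f c σ⟩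
  obtain ⟨σ, hσ⟩ := exists_blk h2 ha hb hab (fun k => (key _ (h1 k)).imp fun _ h => h.2)
    fun k => (key _ (h3 k)).imp fun _ h => h.2
  have h5 : σ ∈ T := hT.normalizer_le_of_top (mem_normalizer_fintype fun ρ hρ => by
    obtain ⟨ρ', h5, h6⟩ := key _ (h4 ρ hρ)
    have h7 := h6.mul hσ
    have h8 := hσ.mul (blk_wr (e := e) 1 1 ρ)
    rw [inv_mul_cancel_right] at h7
    rw [Prod.mk_one_one, map_one, one_mul] at h8
    have : σ * ρ = ρ' * σ := DFunLike.coe_injective (h8.unique h7)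
    rwa [this, mul_inv_cancel_right])
  obtain ⟨k, hk⟩ := hT.pgrp ⟨σ, h5⟩
  rw [eq_one_of_odd_of_two (k := k) ho (hσ.eq_one (pow_orderOf_eq_one x))
    (congrArg Subtype.val hk)] at hσ
  exact hσ.exists_Phi

theorem central_of_normalizes [Finite K] [Nontrivial ι] (h2 : (2 : K) ≠ 0)
    {D : Subgroup (GL (Fin 2) K)} (hD : Good2 D) {T : Subgroup (Perm ι)} (hT : SylIn 2 T ⊤)
    (ht : ∀ i j, ∃ t ∈ T, t i = j) {x : GL J K} (ho : Odd (orderOf x))
    (hx : ∀ s ∈ (glWr K e).sub D ⊥ T ⊓ slK J K, x * s * x⁻¹ ∈ (glWr K e).sub D ⊥ T) :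
    x ∈ center (GL J K) := by
  obtain ⟨a, ha, b, hb, ha', hb', hab⟩ := hD.q8
  have h0 : ∀ ρ ∈ T, x * (glWr K e).τ ρ * x⁻¹ ∈ (glWr K e).sub D ⊥ T := fun ρ hρ =>
    hx _ ⟨Wr.tau_mem _ hρ, det_glWr_tau e (by simp) ρ⟩
  obtain ⟨f, rfl⟩ := eq_Phi_of_normalizes h2 ha'.2 hb'.2 hab hT ho
    (fun k => hx _ ⟨Wr.φ_mem _ k ha, (det_glWr_φ e k a).trans ha'.1⟩)
    (fun k => hx _ ⟨Wr.φ_mem _ k hb, (det_glWr_φ e k b).trans hb'.1⟩) h0
  have h1 : ∀ i, f i ^ orderOf ((glWr K e).Φ (f, 1)) = 1 := fun i => by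
    have := pow_orderOf_eq_one ((glWr K e).Φ (f, 1))
    rw [← map_pow, ← map_one (glWr K e).Φ] at this
    exact congrFun (congrArg Prod.fst ((glWr K e).Phi_injective this)) i
  have key : ∀ g ρ, (glWr K e).Φ (g, 1) * (glWr K e).τ ρ ∈ (glWr K e).sub D ⊥ T → ∀ i, g i ∈ D :=
    fun g ρ h => by
      obtain ⟨f', c, σ, h3, -, -, h4⟩ := (glWr K e).mem_sub.1 h
      exact (show f' = g from congrArg Prod.fst ((glWr K e).eq_iff.1 h4).1) ▸ h3
  choose c hc using fun i => hD.scalar h2 (f := f i)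
    (ho.of_dvd_nat (orderOf_dvd_of_pow_eq_one (h1 i))) fun δ hδ => by
      obtain ⟨j, hj⟩ := exists_ne i
      have := hx _ ⟨mul_mem (Wr.φ_mem _ i hδ) (Wr.φ_mem _ j (inv_mem hδ)), by
        simp [det_glWr_φ]⟩
      rw [Wr.φ_apply, Wr.φ_apply, ← map_inv, ← map_mul, ← map_mul, ← map_mul,
        ← mul_one ((glWr K e).Φ _), ← map_one (glWr K e).τ] at this
      have h6 := key _ 1 (by simpa using this) i
      simpa [Pi.mul_apply, hj.symm] using h6
  have h3 : ∀ i j, f i = f j := fun i j => by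
    obtain ⟨t, ht, rfl⟩ := ht i j
    have := h0 t ht
    rw [← map_inv, mul_assoc, Prod.inv_mk, (glWr K e).conj, ← mul_assoc, ← map_mul] at this
    obtain ⟨k, hk⟩ := hD.pgrp ⟨_, key _ t (by simpa using this) (t i)⟩
    have h4 : Commute (f (t i)) (f i)⁻¹ := by
      rw [hc, hc, ← map_inv]; exact (Commute.all _ _).map _
    refine (mul_inv_eq_one.1 (eq_one_of_odd_of_two (k := k) ho ?_
      (by simpa using congrArg Subtype.val hk))).symm
    rw [h4.mul_pow, inv_pow, h1, h1]; simp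
  obtain ⟨i⟩ : Nonempty ι := inferInstance
  have h4 : ∀ v, act e ((glWr K e).Φ (f, 1)) v = (c i : K) • v := fun v => funext fun j => by
    rw [act_Phi, h3 j i, hc]
    funext b
    simp [mulVec_diagonal]
  exact mem_center_iff.2 fun g => act_ext e fun j u => by rw [act_mul, act_mul, h4, h4, map_smul]

end two

theorem pronormal_quot {G : Type*} [Group G] [Finite G] {N : Subgroup G} [N.Normal]
    (h : ∀ P : Subgroup G, SylIn 2 P ⊤ → ∀ x ∈ normalizer (P : Set G), Odd (orderOf x) → x ∈ N)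
    {H : Subgroup (G ⧸ N)} (hH : Odd H.index) : IsPronormal H := by
  refine pronormal_of_comap (QuotientGroup.mk'_surjective N) ?_
  rw [← index_comap_of_surjective H (QuotientGroup.mk'_surjective N)] at hH
  obtain ⟨P, hP⟩ := SylIn.exists_sylIn (p := 2) (H.comap (QuotientGroup.mk' N))
  have hP' := hP.of_trans le_top (by rw [relIndex_top_right]; exact hH.not_two_dvd_nat)
  obtain ⟨P, rfl⟩ := hP'.exists_sylow_top
  refine H77.isPronormal_of_normalizer hP.le (H77.isPronormal_sylow P) fun g hg =>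
    H77.conjIn_of_mem_normalizer (le_normalizer ?_)
  obtain ⟨k, m, hm, e⟩ := Nat.exists_eq_two_pow_mul_odd (orderOf_pos g).ne'
  have h1 := hP.le (hP'.mem_of_mem_normalizer (mem_top (g ^ m)) (k := k)
    (by rw [← pow_mul, mul_comm, ← e, pow_orderOf_eq_one]) (pow_mem hg m))
  have h2 : g ^ 2 ^ k ∈ H.comap (QuotientGroup.mk' N) := by
    have := h _ hP' _ (pow_mem hg (2 ^ k)) (hm.of_dvd_nat (orderOf_dvd_of_pow_eq_one (by
      rw [← pow_mul, ← e, pow_orderOf_eq_one])))
    rw [mem_comap, QuotientGroup.mk'_apply, (QuotientGroup.eq_one_iff _).2 this]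
    exact one_mem _
  have h3 := zpow_mem h1 (Nat.gcdA m (2 ^ k))
  have h4 := zpow_mem h2 (Nat.gcdB m (2 ^ k))
  have h5 := mul_mem h3 h4
  rwa [← zpow_natCast, ← zpow_natCast, ← _root_.zpow_mul, ← _root_.zpow_mul,
    ← _root_.zpow_add, ← Nat.gcd_eq_gcd_ab,
    (Nat.coprime_two_right.2 hm).pow_right k, Nat.cast_one, zpow_one] at h5

theorem central_of_embed {G G' : Type*} [Group G] [Group G'] [Finite G'] {j : G →* G'}
    (hj : Function.Injective j) {S : Subgroup G'} (hS : SylIn 2 S j.range)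
    (h : ∀ x : G', Odd (orderOf x) → (∀ s ∈ S, x * s * x⁻¹ ∈ S) → x ∈ center G')
    (P : Subgroup G) (hP : SylIn 2 P ⊤) (x : G) (hx : x ∈ normalizer (P : Set G))
    (ho : Odd (orderOf x)) : x ∈ center G := by
  have h1 := hP.map_of_injective j hj
  rw [← MonoidHom.range_eq_map] at h1
  obtain ⟨k, -, rfl⟩ := hS.exists_conj_eq h1
  have := h (k * j x * k⁻¹) (ho.of_dvd_nat (orderOf_dvd_of_pow_eq_one (by
    rw [conj_pow, ← map_pow, pow_orderOf_eq_one]; simp))) (by
      rintro _ ⟨_, ⟨s, hs, rfl⟩, rfl⟩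
      exact ⟨_, ⟨_, (mem_normalizer_iff.1 hx s).1 hs, rfl⟩, by simp [mul_assoc]⟩)
  have h2 : j x ∈ center G' := by
    have h3 := (inferInstance : (center G').Normal).conj_mem _ this k⁻¹
    simpa [mul_assoc] using h3
  exact mem_center_iff.2 fun g => hj (by rw [map_mul, map_mul, mem_center_iff.1 h2])

/-- the block decomposition of a space of dimension `2 ^ (w + 1)` -/
def blkEquiv (w : ℕ) : Fin 2 × Fin (2 ^ w) ⊕ Empty ≃ Fin (2 ^ (w + 1)) :=
  (Equiv.sumEmpty _ _).trans (finProdFinEquiv.trans (finCongr (pow_succ' 2 w).symm))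

theorem pronormal_PSL_odd {F : Type*} [Field F] [Finite F] (hq : Odd (Nat.card F)) (w : ℕ)
    {H : Subgroup (ProjectiveSpecialLinearGroup (Fin (2 ^ (w + 2))) F)} (hH : Odd H.index) :
    IsPronormal H := by
  obtain ⟨D, hD⟩ := SylIn.exists_sylIn (p := 2) (⊤ : Subgroup (GL (Fin 2) F))
  obtain ⟨T, hT⟩ := SylIn.exists_sylIn (p := 2) (⊤ : Subgroup (Perm (Fin (2 ^ (w + 1)))))
  have : Nontrivial (Fin (2 ^ (w + 1))) := Fin.nontrivial_iff_two_le.2 (Nat.one_lt_two_pow (by simp))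
  have hW := sylIn_glWr hq (blkEquiv (w + 1)) (by simp) hD (C := ⊥)
    (by rw [Subsingleton.elim ⊥ ⊤]; exact ⟨le_rfl, IsPGroup.of_card (n := 0) (by simp), by simp⟩) hT
  have h3 := sylIn_inf_normal hW (slK _ F)
  nth_rw 2 [← range_toGL] at h3
  refine pronormal_quot (central_of_embed SpecialLinearGroup.toGL_injective h3
    fun x ho hx => ?_) hH
  exact central_of_normalizes (H10.two_ne_zero_of_odd_card hq) (good2_GL hq hD) hT
    (exists_of_sylow_perm_two_pow hT (Fintype.card_fin _)) ho fun s hs => (hx s hs).1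

section unitary

open H11.U

theorem v2_prod_gu {q : ℕ} (hq : Odd q) (h1 : 1 < q) (m : ℕ) :
    padicValNat 2 (∏ i ∈ Finset.range (2 * m), (if Even i then q ^ (i + 1) + 1 else q ^ (i + 1) - 1)) =
      (padicValNat 2 (q + 1) + padicValNat 2 (q ^ 2 - 1)) * m + padicValNat 2 m.factorial := by
  have h0 : ∀ i, (if Even i then q ^ (i + 1) + 1 else q ^ (i + 1) - 1) ≠ 0 := fun i => by
    split_ifs
    · omega
    · exact pow_sub_one_ne_zero h1 (by omega)
  induction m with
  | zero => simp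
  | succ m ih =>
    have a := v2_sub_add hq h1 (n := 2 * m + 1) (by omega)
    have b := v2_sub_add hq h1 (n := 1) (by omega)
    rw [v2_pow_odd_sub_one hq h1 ⟨m, rfl⟩,
      padicValNat.eq_zero_of_not_dvd (p := 2) (n := 2 * m + 1) (by omega)] at a
    rw [pow_one, padicValNat_one_right] at b
    rw [mul_add, mul_one, Finset.prod_range_succ, Finset.prod_range_succ,
      padicValNat.mul (mul_ne_zero (Finset.prod_ne_zero_iff.2 fun i _ => h0 i) (h0 _)) (h0 _),
      padicValNat.mul (Finset.prod_ne_zero_iff.2 fun i _ => h0 i) (h0 _), ih,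
      if_pos (even_two_mul m), if_neg (by simp), show 2 * m + 1 + 1 = 2 * (m + 1) by ring,
      v2_pow_even_sub_one hq h1 (by omega), Nat.factorial_succ,
      padicValNat.mul (by omega) (Nat.factorial_ne_zero m), show padicValNat 2 (q ^ (2 * m + 1) + 1)
        = padicValNat 2 (q + 1) by omega]
    ring

variable {F : Type*} [Field F] [Fintype F] (q : ℕ) [IsSq F q]

theorem v2_card_GU (hq : Odd q) {n m : ℕ} (h : n = 2 * m) : padicValNat 2 (Nat.card (GU n F q)) =
    (padicValNat 2 (q + 1) + padicValNat 2 (q ^ 2 - 1)) * m + padicValNat 2 m.factorial := by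
  have h1 := two_le_q F q
  rw [card_GU, v2_odd_mul hq.pow (Finset.prod_ne_zero_iff.2 fun i _ => ?_), h, v2_prod_gu hq h1]
  split_ifs
  · omega
  · exact pow_sub_one_ne_zero h1 (by omega)

theorem sub_le_GU {ι : Type*} [Fintype ι] [DecidableEq ι] {n : ℕ} (e : Fin 2 × ι ⊕ Empty ≃ Fin n)
    {D : Subgroup (GL (Fin 2) F)} (hD : D ≤ GU 2 F q) (T : Subgroup (Perm ι)) :
    (glWr F e).sub D ⊥ T ≤ GU n F q := by
  intro g hg
  obtain ⟨f, c, σ, hf, -, -, rfl⟩ := (glWr F e).mem_sub.1 hg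
  refine mul_mem (mem_GU.2 (isIso_iff.2 ?_)) (mem_GU.2 (isIso_iff.2 ?_))
  · rw [glWr_Phi_val, blk_transpose, blk_map, ← map_mul, ← map_one (blk e)]
    congr 1
    exact Prod.ext (funext fun i => isIso_iff.1 (mem_GU.1 (hD (hf i)))) (Subsingleton.elim _ _)
  · rw [glWr_tau_val, PEquiv.map_toMatrix, transpose_permMatrix, ← permMatrix_mul]
    simp

theorem pronormal_PSU_odd (hq : Odd q) (w : ℕ) {H : Subgroup (PSU (2 ^ (w + 2)) F q)}
    (hH : Odd H.index) : IsPronormal H := by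
  have h2 : (2 : F) ≠ 0 := H10.two_ne_zero_of_odd_card (by
    rw [Nat.card_eq_fintype_card, IsSq.card_eq (q := q)]; exact hq.pow)
  obtain ⟨D, hD⟩ := SylIn.exists_sylIn (p := 2) (GU 2 F q)
  obtain ⟨T, hT⟩ := SylIn.exists_sylIn (p := 2) (⊤ : Subgroup (Perm (Fin (2 ^ (w + 1)))))
  have : Nontrivial (Fin (2 ^ (w + 1))) := Fin.nontrivial_iff_two_le.2 (Nat.one_lt_two_pow (by simp))
  have hW : SylIn 2 ((glWr F (blkEquiv (w + 1))).sub D ⊥ T) (GU _ F q) :=
    sylIn_of_card_le (sub_le_GU q _ hD.le T) (Wr.isPGroup _ hD.pgrp IsPGroup.of_bot hT.pgrp) (by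
      rw [Wr.card_sub, sylIn_card hD, card_sylow_perm hT, v2_card_GU q hq (pow_succ' 2 (w + 1)),
        v2_card_GU q hq (m := 1) rfl, card_bot, mul_one, ← pow_mul, ← pow_add]
      simp)
  have h3 := hW.inf_of_normal (N := GU _ F q ⊓ slK _ F) inf_le_left fun k hk x hx =>
    mem_inf.2 ⟨mul_mem (mul_mem hk (mem_inf.1 hx).1) (inv_mem hk),
      (MonoidHom.normal_ker _).conj_mem _ (mem_inf.1 hx).2 k⟩
  rw [← inf_assoc, inf_of_le_left hW.le] at h3
  have h4 : (SpecialLinearGroup.toGL.comp (SU (2 ^ (w + 2)) F q).subtype).range =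
      GU _ F q ⊓ slK _ F := by
    ext g
    exact ⟨by rintro ⟨a, rfl⟩; exact ⟨a.2, SpecialLinearGroup.coeToGL_det _⟩,
      fun h => ⟨⟨⟨g.val, congrArg Units.val h.2⟩, h.1⟩, Units.ext rfl⟩⟩
  have h5 : SylIn 2 ((glWr F (blkEquiv (w + 1))).sub D ⊥ T ⊓ slK _ F)
    (SpecialLinearGroup.toGL.comp (SU (2 ^ (w + 2)) F q).subtype).range := by rw [h4]; exact h3
  refine pronormal_quot (central_of_embed (fun a b h => Subtype.ext
    (SpecialLinearGroup.toGL_injective h)) h5 fun x ho hx => ?_) hH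
  exact central_of_normalizes h2 (good2_GU q h2 hD) hT
    (exists_of_sylow_perm_two_pow hT (Fintype.card_fin _)) ho fun s hs => (hx s hs).1

end unitary

end H82
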