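import Mathlib
import Cfsg.Agent.Lib.Syl2.Orth
import Cfsg.Agent.Lib.Syl2.Lin
import Cfsg.Prelude.Def_G2

/-!
# Split octonions: involutions of `G₂` and its Sylow `2`-subgroups in odd characteristic
-/

set_option autoImplicit false

namespace H82.Oct

open Subgroup H61 H12 QuadraticMap Module Matrix Cfsg.Lie

variable {F : Type*} [Field F]

theorem zm_eq (x y : Fin 8 → F) : zornMul x y =
    ![x 0 * y 0 + (x 1 * y 4 + x 2 * y 5 + x 3 * y 6),
      x 0 * y 1 + y 7 * x 1 - (x 5 * y 6 - x 6 * y 5),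
      x 0 * y 2 + y 7 * x 2 - (x 6 * y 4 - x 4 * y 6),
      x 0 * y 3 + y 7 * x 3 - (x 4 * y 5 - x 5 * y 4),
      y 0 * x 4 + x 7 * y 4 + (x 2 * y 3 - x 3 * y 2),
      y 0 * x 5 + x 7 * y 5 + (x 3 * y 1 - x 1 * y 3),
      y 0 * x 6 + x 7 * y 6 + (x 1 * y 2 - x 2 * y 1),
      x 4 * y 1 + x 5 * y 2 + x 6 * y 3 + x 7 * y 7] := by
  ext i
  fin_cases i <;> simp [zornMul, dot3, cross3]

/-- the multiplication as a bilinear map -/
def mu (F : Type*) [Field F] : (Fin 8 → F) →ₗ[F] (Fin 8 → F) →ₗ[F] (Fin 8 → F) :=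
  LinearMap.mk₂ F zornMul
    (fun x y z => by ext i; fin_cases i <;> simp [zm_eq] <;> ring)
    (fun c x y => by ext i; fin_cases i <;> simp [zm_eq] <;> ring)
    (fun x y z => by ext i; fin_cases i <;> simp [zm_eq] <;> ring)
    (fun c x y => by ext i; fin_cases i <;> simp [zm_eq] <;> ring)

theorem mu_apply (x y : Fin 8 → F) : mu F x y = zornMul x y := rfl

/-- the identity element -/
def e1 (F : Type*) [Field F] : Fin 8 → F := ![1, 0, 0, 0, 0, 0, 0, 1]

/-- the norm -/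
def nm (F : Type*) [Field F] : QuadraticForm F (Fin 8 → F) :=
  proj 0 7 - proj 1 4 - proj 2 5 - proj 3 6

theorem nm_apply (x : Fin 8 → F) : nm F x = x 0 * x 7 - x 1 * x 4 - x 2 * x 5 - x 3 * x 6 := by
  simp [nm]

theorem polar_nm (x y : Fin 8 → F) : polar (nm F) x y = x 0 * y 7 + x 7 * y 0 - x 1 * y 4 -
    x 4 * y 1 - x 2 * y 5 - x 5 * y 2 - x 3 * y 6 - x 6 * y 3 := by
  simp only [polar, nm_apply, Pi.add_apply]
  ring

theorem nondeg_nm : Nondeg (nm F) := by
  intro v hv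
  funext i
  have h := fun j => hv (Pi.single j 1)
  fin_cases i
  · simpa [polar_nm] using h 7
  · simpa [polar_nm] using h 4
  · simpa [polar_nm] using h 5
  · simpa [polar_nm] using h 6
  · simpa [polar_nm] using h 1
  · simpa [polar_nm] using h 2
  · simpa [polar_nm] using h 3
  · simpa [polar_nm] using h 0

theorem e1_ne_zero : e1 F ≠ 0 := fun h => by simpa [e1] using congrFun h 0

theorem mu_e1 (x : Fin 8 → F) : mu F x (e1 F) = x := by
  ext i; fin_cases i <;> simp [mu_apply, zm_eq, e1]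

theorem e1_mu (x : Fin 8 → F) : mu F (e1 F) x = x := by
  ext i; fin_cases i <;> simp [mu_apply, zm_eq, e1]

theorem mu_self (x : Fin 8 → F) : mu F x x = (x 0 + x 7) • x - nm F x • e1 F := by
  ext i; fin_cases i <;> simp [mu_apply, zm_eq, e1, nm_apply] <;> ring

/-- conjugation -/
def cj (x : Fin 8 → F) : Fin 8 → F := ![x 7, -x 1, -x 2, -x 3, -x 4, -x 5, -x 6, x 0]

theorem mu_left (x y : Fin 8 → F) : mu F (cj x) (mu F x y) = nm F x • y := by
  ext i; fin_cases i <;> simp [mu_apply, zm_eq, cj, nm_apply] <;> ring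

theorem mu_right (x y : Fin 8 → F) : mu F (mu F y x) (cj x) = nm F x • y := by
  ext i; fin_cases i <;> simp [mu_apply, zm_eq, cj, nm_apply] <;> ring

theorem mu_left_inj {x : Fin 8 → F} (hx : nm F x ≠ 0) : Function.Injective (mu F x) := by
  rw [injective_iff_map_eq_zero]
  intro y hy
  have := mu_left x y
  rw [hy, map_zero] at this
  exact (smul_eq_zero.1 this.symm).resolve_left hx

theorem eq_zero_of_mu_right {x y : Fin 8 → F} (hx : nm F x ≠ 0) (h : mu F y x = 0) : y = 0 := by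
  have := mu_right x y
  rw [h, map_zero, LinearMap.zero_apply] at this
  exact (smul_eq_zero.1 this.symm).resolve_left hx

theorem mem_G2 {g : GL (Fin 8) F} :
    g ∈ G2 F ↔ ∀ x y, g.val *ᵥ mu F x y = mu F (g.val *ᵥ x) (g.val *ᵥ y) := Iff.rfl

theorem gl_inv_mulVec {ι : Type*} [Fintype ι] [DecidableEq ι] (g : GL ι F) (x : ι → F) :
    (g⁻¹).val *ᵥ (g.val *ᵥ x) = x := by
  rw [mulVec_mulVec, ← Units.val_mul, inv_mul_cancel, Units.val_one, one_mulVec]

theorem gl_mulVec_inv {ι : Type*} [Fintype ι] [DecidableEq ι] (g : GL ι F) (x : ι → F) :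
    g.val *ᵥ ((g⁻¹).val *ᵥ x) = x := by
  rw [mulVec_mulVec, ← Units.val_mul, mul_inv_cancel, Units.val_one, one_mulVec]

theorem fix_e1 {g : GL (Fin 8) F} (hg : g ∈ G2 F) : g.val *ᵥ e1 F = e1 F := by
  have := hg (e1 F) ((g⁻¹).val *ᵥ e1 F)
  change g.val *ᵥ mu F _ _ = mu F (g.val *ᵥ _) (g.val *ᵥ _) at this
  rw [e1_mu, gl_mulVec_inv, mu_e1] at this
  exact this.symm

theorem map_nm {g : GL (Fin 8) F} (hg : g ∈ G2 F) (x : Fin 8 → F) : nm F (g.val *ᵥ x) = nm F x := by
  have h := mem_G2.1 hg x x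
  rw [mu_self, mu_self, mulVec_sub, mulVec_smul, mulVec_smul, fix_e1 hg] at h
  set y := g.val *ᵥ x with hy
  have h1 : (x 0 + x 7 - (y 0 + y 7)) • y = (nm F x - nm F y) • e1 F := by
    rw [sub_smul, sub_smul]
    linear_combination (exp := 1) h
  by_cases h2 : x 0 + x 7 - (y 0 + y 7) = 0
  · rw [h2, zero_smul] at h1
    exact (sub_eq_zero.1 ((smul_eq_zero.1 h1.symm).resolve_right e1_ne_zero)).symm
  · have h3 : y = ((x 0 + x 7 - (y 0 + y 7))⁻¹ * (nm F x - nm F y)) • e1 F := by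
      rw [mul_smul, ← h1, smul_smul, inv_mul_cancel₀ h2, one_smul]
    have h4 : x = y := by
      rw [← gl_inv_mulVec g x, ← hy, h3, mulVec_smul, fix_e1 (inv_mem hg)]
    rw [← h4]

theorem map_polar {g : GL (Fin 8) F} (hg : g ∈ G2 F) (x y : Fin 8 → F) :
    polar (nm F) (g.val *ᵥ x) (g.val *ᵥ y) = polar (nm F) x y := by
  simp only [polar, ← mulVec_add, map_nm hg]

/-- eigenspaces -/
def eig (z : GL (Fin 8) F) (c : F) : Submodule F (Fin 8 → F) where
  carrier := {v | z.val *ᵥ v = c • v}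
  add_mem' {a b} ha hb := by
    change z.val *ᵥ (a + b) = _
    rw [mulVec_add, ha, hb, smul_add]
  zero_mem' := by simp
  smul_mem' d v hv := by
    change z.val *ᵥ (d • v) = _
    rw [mulVec_smul, hv, smul_comm]

theorem mem_eig {z : GL (Fin 8) F} {c : F} {v : Fin 8 → F} : v ∈ eig z c ↔ z.val *ᵥ v = c • v :=
  Iff.rfl

theorem mu_mem_eig {z : GL (Fin 8) F} (hz : z ∈ G2 F) {c d : F} {x y : Fin 8 → F}
    (hx : x ∈ eig z c) (hy : y ∈ eig z d) : mu F x y ∈ eig z (c * d) := by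
  rw [mem_eig, mem_G2.1 hz, hx, hy]
  simp [smul_smul, mul_comm]

section invol

variable (h2 : (2 : F) ≠ 0) {z : GL (Fin 8) F} (hz : z ∈ G2 F) (hz2 : z * z = 1)
include h2 hz2

theorem exists_eig_add (v : Fin 8 → F) : ∃ a ∈ eig z 1, ∃ b ∈ eig z (-1), a + b = v := by
  have h : z.val *ᵥ (z.val *ᵥ v) = v := by
    rw [mulVec_mulVec, ← Units.val_mul, hz2, Units.val_one, one_mulVec]
  refine ⟨(2 : F)⁻¹ • (v + z.val *ᵥ v), Submodule.smul_mem _ _ ?_, (2 : F)⁻¹ • (v - z.val *ᵥ v),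
    Submodule.smul_mem _ _ ?_, ?_⟩
  · rw [mem_eig, mulVec_add, h, one_smul, add_comm]
  · rw [mem_eig, mulVec_sub, h, neg_one_smul, neg_sub]
  · rw [← smul_add, add_add_sub_cancel, ← two_smul F, smul_smul, inv_mul_cancel₀ h2, one_smul]

theorem isCompl_eig : IsCompl (eig z 1) (eig z (-1)) := by
  refine ⟨Submodule.disjoint_def.2 fun v h h' => ?_, codisjoint_iff.2 (eq_top_iff.2 fun v _ =>
    Submodule.mem_sup.2 (exists_eig_add h2 hz2 v))⟩
  rw [mem_eig] at h h'
  rw [h, one_smul, neg_one_smul, eq_neg_iff_add_eq_zero, ← two_smul F] at h'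
  exact (smul_eq_zero.1 h').resolve_left h2

include hz

theorem nondeg_eig : Nondeg ((nm F).restrict (eig z (-1))) := by
  intro v hv
  refine Subtype.ext (nondeg_nm _ fun w => ?_)
  obtain ⟨a, ha, b, hb, rfl⟩ := exists_eig_add h2 hz2 w
  have h1 : polar (nm F) v b = 0 := hv ⟨b, hb⟩
  have h3 := map_polar hz v a
  rw [v.2, ha, one_smul, neg_one_smul, polar_neg_left] at h3
  rw [polar_add_right, h1, add_zero]
  exact mul_left_cancel₀ h2 (by linear_combination -h3)

theorem exists_nm_ne_zero (hz1 : z ≠ 1) : ∃ l ∈ eig z (-1), nm F l ≠ 0 := by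
  by_contra h
  push Not at h
  refine hz1 (gl_ext fun v => ?_)
  obtain ⟨a, ha, b, hb, rfl⟩ := exists_eig_add h2 hz2 v
  have : (⟨b, hb⟩ : eig z (-1)) = 0 := nondeg_eig h2 hz hz2 _ fun w =>
    H66.polar_eq_zero_of_forall h hb w.2
  rw [show b = 0 from congrArg Subtype.val this, add_zero, ha, one_smul, Units.val_one, one_mulVec]

theorem finrank_eig (hz1 : z ≠ 1) : finrank F (eig z (-1)) = 4 := by
  obtain ⟨l, hl, hl0⟩ := exists_nm_ne_zero h2 hz hz2 hz1
  have h1 := Submodule.finrank_add_eq_of_isCompl (isCompl_eig h2 hz2)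
  have key : ∀ c, finrank F (eig z c) ≤ finrank F (eig z (-1 * c)) := fun c =>
    LinearMap.finrank_le_finrank_of_injective
      (f := (mu F l).restrict fun x hx => mu_mem_eig hz hl hx) fun x y h =>
        Subtype.ext (mu_left_inj hl0 (congrArg Subtype.val h))
  have h3 := key 1
  have h4 := key (-1)
  rw [mul_one] at h3
  rw [neg_mul_neg, mul_one] at h4
  simp only [finrank_fintype_fun_eq_card, Fintype.card_fin] at h1
  omega

theorem eq_one_of_fix (hz1 : z ≠ 1) {g : GL (Fin 8) F} (hg : g ∈ G2 F)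
    (h : ∀ v ∈ eig z (-1), g.val *ᵥ v = v) : g = 1 := by
  obtain ⟨l, hl, hl0⟩ := exists_nm_ne_zero h2 hz hz2 hz1
  refine gl_ext fun v => ?_
  obtain ⟨a, ha, b, hb, rfl⟩ := exists_eig_add h2 hz2 v
  have h1 := mem_G2.1 hg l a
  rw [h l hl, h _ (by simpa using mu_mem_eig hz hl ha)] at h1
  rw [mulVec_add, h b hb, ← mu_left_inj hl0 h1, Units.val_one, one_mulVec]

theorem not_refl (hz1 : z ≠ 1) {g : GL (Fin 8) F} (hg : g ∈ G2 F) {w : eig z (-1)}
    (hw : nm F w ≠ 0) :
    ¬ ∀ v : eig z (-1), g.val *ᵥ v = (refl ((nm F).restrict (eig z (-1))) w).1 v := by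
  intro h
  let U : Submodule F (eig z (-1)) :=
    LinearMap.ker (polarBilin ((nm F).restrict (eig z (-1))) w)
  have hU : 3 ≤ finrank F U := by
    have h1 := LinearMap.finrank_range_add_finrank_ker
      (polarBilin ((nm F).restrict (eig z (-1))) w)
    have h3 := (LinearMap.range (polarBilin ((nm F).restrict (eig z (-1))) w)).finrank_le
    rw [finrank_eig h2 hz hz2 hz1] at h1
    rw [finrank_self] at h3
    change _ + finrank F U = 4 at h1
    omega
  have hfix : ∀ u ∈ U, g.val *ᵥ (u : Fin 8 → F) = u := fun u hu => by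
    rw [h, refl_apply_of_orth (by rw [polar_comm]; exact hu)]
  obtain ⟨l, hl, hl0⟩ : ∃ l ∈ U, nm F l ≠ 0 := by
    by_contra h'
    push Not at h'
    have := H66.two_mul_finrank_le_of_singular (nondeg_iff.1 (nondeg_eig h2 hz hz2)) U h'
    rw [finrank_eig h2 hz hz2 hz1] at this
    omega
  have key : ∀ u ∈ U, mu F l u ∈ Submodule.span F {e1 F} := fun u hu => by
    have hm : mu F (mu F l u) w ∈ eig z (-1) := by
      simpa using mu_mem_eig hz (mu_mem_eig hz l.2 u.2) w.2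
    have h1 := h ⟨_, hm⟩
    have h3 := h w
    rw [refl_apply_self (Q := (nm F).restrict (eig z (-1))) hw] at h3
    rw [mem_G2.1 hg, mem_G2.1 hg, hfix l hl, hfix u hu, h3, refl_apply] at h1
    generalize ((nm F).restrict (eig z (-1)) w)⁻¹ *
      polar ((nm F).restrict (eig z (-1))) ⟨_, hm⟩ w = c at h1
    simp only [Submodule.coe_neg, map_neg, Submodule.coe_sub, Submodule.coe_smul] at h1
    have h4 : mu F ((2 : F) • mu F l u - c • e1 F) w = 0 := by
      simp only [map_sub, map_smul, LinearMap.sub_apply, LinearMap.smul_apply, e1_mu]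
      rw [two_smul]
      linear_combination (exp := 1) -h1
    have h5 := eq_zero_of_mu_right hw h4
    refine Submodule.mem_span_singleton.2 ⟨2⁻¹ * c, ?_⟩
    rw [mul_smul, ← sub_eq_zero.1 h5, smul_smul, inv_mul_cancel₀ h2, one_smul]
  have h6 : finrank F U ≤ finrank F (Submodule.span F {e1 F}) :=
    LinearMap.finrank_le_finrank_of_injective
      (f := ((mu F l).comp (eig z (-1)).subtype).restrict key) fun x y h =>
        Subtype.ext (Subtype.ext (mu_left_inj hl0 (congrArg Subtype.val h)))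
  rw [finrank_span_singleton e1_ne_zero] at h6
  omega

end invol

theorem mulVec_mem_eig {z g : GL (Fin 8) F} (h : g * z = z * g) {c : F} {v : Fin 8 → F}
    (hv : v ∈ eig z c) : g.val *ᵥ v ∈ eig z c := by
  rw [mem_eig, mulVec_mulVec, ← Units.val_mul, ← h, Units.val_mul, ← mulVec_mulVec, hv, mulVec_smul]

/-- the action on an eigenspace -/
def res {z : GL (Fin 8) F} {P : Subgroup (GL (Fin 8) F)} (hP : P ≤ G2 F)
    (hc : ∀ g ∈ P, g * z = z * g) : P →* O ((nm F).restrict (eig z (-1))) where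
  toFun g := mkO _ ((toLin' g.1.val).restrict fun _ hv => mulVec_mem_eig (hc g g.2) hv)
    ((toLin' (g⁻¹).1.val).restrict fun _ hv => mulVec_mem_eig (hc _ (g⁻¹).2) hv)
    (fun x => map_nm (hP g.2) x) (fun x => Subtype.ext (gl_mulVec_inv g.1 x))
    (fun x => Subtype.ext (gl_inv_mulVec g.1 x))
  map_one' := O.ext fun _ => Subtype.ext (one_mulVec _)
  map_mul' g h := O.ext fun x => Subtype.ext (mulVec_mulVec x.1 g.1.val h.1.val).symm

theorem res_apply {z : GL (Fin 8) F} {P : Subgroup (GL (Fin 8) F)} (hP : P ≤ G2 F)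
    (hc : ∀ g ∈ P, g * z = z * g) (g : P) (v : eig z (-1)) :
    ((res hP hc g).1 v : Fin 8 → F) = g.1.val *ᵥ v := rfl

theorem v2_card_O_four [Finite F] (hq : Odd (Nat.card F)) {V : Type*} [AddCommGroup V] [Module F V]
    [FiniteDimensional F V] {Q : QuadraticForm F V} (hQ : Nondeg Q) (hV : finrank F V = 4) :
    padicValNat 2 (Nat.card (O Q)) ≤ 2 * padicValNat 2 (Nat.card F ^ 2 - 1) + 1 := by
  obtain ⟨b, hb⟩ := H66.exists_aniso (F := F)
  have h1 : 1 < Nat.card F := Finite.one_lt_card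
  rcases H66.exists_equiv_plus_or_minus (nondeg_iff.1 hQ) (m := 2) hV hb with ⟨Φ, h⟩ | ⟨-, Φ, h⟩
  · rw [← Nat.card_congr (congrO (Q := QPlus F 2) Φ fun v => by rw [h, QPlus_apply]).toEquiv,
      v2_card_O_plus hq 1]
    simp
    omega
  · rw [← Nat.card_congr (congrO (Q := QMinus 1 1 b) Φ fun v => by rw [h, QMinus_apply]).toEquiv,
      v2_card_O_minus hq hb 1]
    have h3 := three_le_v2 hq h1
    have h4 : Nat.card F ^ (1 + 1) % 4 = 1 := (isSquare_neg_one_pow hq 2).1 (by simp)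
    rw [v2_eq_one_of_mod (by omega)]
    simp
    omega

theorem card_le [Finite F] (hq : Odd (Nat.card F)) {P : Subgroup (GL (Fin 8) F)} (hP : P ≤ G2 F)
    (hp : IsPGroup 2 P) : Nat.card P ≤ 2 ^ (2 * padicValNat 2 (Nat.card F ^ 2 - 1)) := by
  have h2 := H10.two_ne_zero_of_odd_card hq
  rcases subsingleton_or_nontrivial P with h | h
  · rw [Nat.card_unique]; exact Nat.one_le_two_pow
  have := hp.center_nontrivial
  obtain ⟨z, hz⟩ := exists_prime_orderOf_dvd_card' (G := center P) 2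
    ((hp.to_subgroup _).card_eq_or_dvd.resolve_left (Finite.one_lt_card (α := center P)).ne')
  have hz2 : z.1.1 * z.1.1 = 1 := by
    have := pow_orderOf_eq_one z
    rw [hz, pow_two] at this
    exact congrArg (fun x : center P => x.1.1) this
  have hz1 : z.1.1 ≠ 1 := fun h => by
    rw [show z = 1 from Subtype.ext (Subtype.ext h), orderOf_one] at hz
    omega
  have hc : ∀ g ∈ P, g * z.1.1 = z.1.1 * g := fun g hg =>
    congrArg Subtype.val (mem_center_iff.1 z.2 ⟨g, hg⟩)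
  have hzG := hP z.1.2
  have hinj : Function.Injective (res hP hc) := by
    rw [injective_iff_map_eq_one]
    intro g hg
    refine Subtype.ext (eq_one_of_fix h2 hzG hz2 hz1 (hP g.2) fun v hv => ?_)
    rw [← res_apply hP hc g ⟨v, hv⟩, hg]
    rfl
  have : Finite (eig z.1.1 (-1) ≃ₗ[F] eig z.1.1 (-1)) :=
    Finite.of_injective _ DFunLike.coe_injective
  by_contra hlt
  obtain ⟨k, hk⟩ := hp.exists_card_eq
  have hS : SylIn 2 (res hP hc).range ⊤ := by
    refine sylIn_top_of_card_le (hp.of_surjective _ (MonoidHom.rangeRestrict_surjective _)) ?_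
    rw [← Nat.card_congr (MonoidHom.ofInjective hinj).toEquiv, hk]
    refine Nat.pow_le_pow_right two_pos ((v2_card_O_four hq (nondeg_eig h2 hzG hz2)
      (finrank_eig h2 hzG hz2 hz1)).trans ?_)
    rw [hk, Nat.pow_le_pow_iff_right one_lt_two] at hlt
    omega
  obtain ⟨l, hl, hl0⟩ := exists_nm_ne_zero h2 hzG hz2 hz1
  obtain ⟨g, -, x, hx⟩ := hS.exists_conj_mem (mem_top (refl _ ⟨l, hl⟩)) (k := 1) (refl_sq _)
  rw [refl_conj] at hx
  refine not_refl h2 hzG hz2 hz1 (hP x.2) (w := g.1 ⟨l, hl⟩) ((O.map_Q g _).trans_ne hl0) fun v => ?_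
  rw [← hx, res_apply]

/-- Cayley–Dickson coordinates -/
def cdE (F : Type*) [Field F] :
    (Fin 8 → F) ≃ₗ[F] Matrix (Fin 2) (Fin 2) F × Matrix (Fin 2) (Fin 2) F where
  toFun x := (!![x 0, x 1; x 4, x 7], !![x 2, x 6; x 3, -x 5])
  invFun y := ![y.1 0 0, y.1 0 1, y.2 0 0, y.2 1 0, y.1 1 0, -y.2 1 1, y.2 0 1, y.1 1 1]
  map_add' x y := by
    refine Prod.ext ?_ ?_ <;> ext i j <;> fin_cases i <;> fin_cases j <;> simp [add_comm]
  map_smul' c x := by
    refine Prod.ext ?_ ?_ <;> ext i j <;> fin_cases i <;> fin_cases j <;> simp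
  left_inv x := by ext i; fin_cases i <;> simp
  right_inv y := by
    refine Prod.ext ?_ ?_ <;> ext i j <;> fin_cases i <;> fin_cases j <;> simp

theorem cdE_apply (x : Fin 8 → F) :
    cdE F x = (!![x 0, x 1; x 4, x 7], !![x 2, x 6; x 3, -x 5]) := rfl

theorem cdE_mu (x y : Fin 8 → F) : cdE F (mu F x y) =
    ((cdE F x).1 * (cdE F y).1 - adjugate (cdE F y).2 * (cdE F x).2,
      (cdE F y).2 * (cdE F x).1 + (cdE F x).2 * adjugate (cdE F y).1) := by
  refine Prod.ext ?_ ?_ <;> ext i j <;> fin_cases i <;> fin_cases j <;>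
    simp [cdE_apply, mu_apply, zm_eq, adjugate_fin_two] <;> ring

/-- the two-sided action on pairs of matrices -/
def act (F : Type*) [Field F] : GL (Fin 2) F × GL (Fin 2) F →*
    Module.End F (Matrix (Fin 2) (Fin 2) F × Matrix (Fin 2) (Fin 2) F) where
  toFun g := (LinearMap.mulLeftRight F (g.1.val, (g.1⁻¹).val)).prodMap
    (LinearMap.mulLeftRight F (g.2.val, (g.1⁻¹).val))
  map_one' := LinearMap.ext fun x => by simp
  map_mul' g h := LinearMap.ext fun x => by simp [Matrix.mul_assoc]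

theorem act_apply (g : GL (Fin 2) F × GL (Fin 2) F)
    (x : Matrix (Fin 2) (Fin 2) F × Matrix (Fin 2) (Fin 2) F) :
    act F g x = (g.1.val * x.1 * (g.1⁻¹).val, g.2.val * x.2 * (g.1⁻¹).val) := rfl

/-- the action on the octonions as matrices -/
noncomputable def rhoM (F : Type*) [Field F] :
    GL (Fin 2) F × GL (Fin 2) F →* Matrix (Fin 8) (Fin 8) F where
  toFun g := LinearMap.toMatrix' ((cdE F).symm.toLinearMap ∘ₗ act F g ∘ₗ (cdE F).toLinearMap)
  map_one' := by
    rw [map_one, ← LinearMap.toMatrix'_id]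
    congr 1
    exact LinearMap.ext fun x => (cdE F).symm_apply_apply x
  map_mul' g h := by
    rw [← LinearMap.toMatrix'_comp, map_mul]
    congr 1
    exact LinearMap.ext fun x => by
      simp only [LinearMap.comp_apply, LinearEquiv.coe_coe, LinearEquiv.apply_symm_apply,
        Module.End.mul_apply]

/-- the action on the octonions -/
noncomputable def rho (F : Type*) [Field F] : GL (Fin 2) F × GL (Fin 2) F →* GL (Fin 8) F :=
  (rhoM F).toHomUnits

theorem cdE_rho (g : GL (Fin 2) F × GL (Fin 2) F) (x : Fin 8 → F) :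
    cdE F ((rho F g).val *ᵥ x) = act F g (cdE F x) := by
  have : (rho F g).val =
    LinearMap.toMatrix' ((cdE F).symm.toLinearMap ∘ₗ act F g ∘ₗ (cdE F).toLinearMap) := rfl
  rw [this, ← toLin'_apply, toLin'_toMatrix']
  exact (cdE F).apply_symm_apply _

theorem adjugate_gl (g : GL (Fin 2) F) : adjugate g.val = g.val.det • (g⁻¹).val := by
  rw [← Matrix.mul_one (adjugate g.val), ← Units.mul_inv g, ← Matrix.mul_assoc, adjugate_mul]
  simp

theorem rho_mem {g : GL (Fin 2) F × GL (Fin 2) F}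
    (h : GeneralLinearGroup.det g.1 = GeneralLinearGroup.det g.2) : rho F g ∈ G2 F := by
  refine mem_G2.2 fun x y => (cdE F).injective ?_
  have h1 : g.1.val.det = g.2.val.det := congrArg Units.val h
  have h3 : (g.1⁻¹).val.det * g.1.val.det = 1 := by rw [← det_mul, Units.inv_mul, det_one]
  rw [cdE_rho, cdE_mu, cdE_mu, cdE_rho, cdE_rho]
  simp only [act_apply, adjugate_mul_distrib, adjugate_gl, inv_inv, Matrix.mul_assoc,
    Units.inv_mul_cancel_left, Matrix.smul_mul, Matrix.mul_smul, smul_smul, ← h1, h3, one_smul,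
    Matrix.mul_sub, Matrix.sub_mul, Matrix.mul_add, Matrix.add_mul, mul_comm g.1.val.det]

theorem rho_scalar (u : Fˣ) :
    rho F (GeneralLinearGroup.scalar (Fin 2) u, GeneralLinearGroup.scalar (Fin 2) u) = 1 := by
  refine gl_ext fun x => (cdE F).injective ?_
  rw [cdE_rho, act_apply, Units.val_one, one_mulVec]
  have h : ∀ A : Matrix (Fin 2) (Fin 2) F, (GeneralLinearGroup.scalar (Fin 2) u).val * A *
      ((GeneralLinearGroup.scalar (Fin 2) u)⁻¹).val = A := fun A => by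
    rw [Units.mul_inv_eq_iff_eq_mul]
    exact (Matrix.scalar_commute (u : F) (fun _ => Commute.all _ _) A).eq
  rw [h, h]

theorem exists_of_rho_eq_one {g : GL (Fin 2) F × GL (Fin 2) F} (h : rho F g = 1) :
    ∃ u : Fˣ, g = (GeneralLinearGroup.scalar (Fin 2) u, GeneralLinearGroup.scalar (Fin 2) u) := by
  have h1 : ∀ y, act F g y = y := fun y => by
    obtain ⟨x, rfl⟩ := (cdE F).surjective y
    rw [← cdE_rho, h, Units.val_one, one_mulVec]
  have h3 : g.2 = g.1 := by
    have := congrArg Prod.snd (h1 (0, 1))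
    rw [act_apply] at this
    simp only [Matrix.mul_one] at this
    exact mul_inv_eq_one.1 (Units.ext this)
  have h4 : g.1 ∈ center (GL (Fin 2) F) := mem_center_iff.2 fun a => by
    have := congrArg Prod.fst (h1 (a.val, 0))
    rw [act_apply] at this
    exact (mul_inv_eq_iff_eq_mul.1 (Units.ext this : g.1 * a * g.1⁻¹ = a)).symm
  rw [GeneralLinearGroup.center_eq_range_scalar] at h4
  obtain ⟨u, hu⟩ := h4
  exact ⟨u, Prod.ext hu.symm (h3.trans hu.symm)⟩

theorem exists_sylow_GL2' [Finite F] (hq : Odd (Nat.card F)) :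
    ∃ (D : Subgroup (GL (Fin 2) F)) (g : GL (Fin 2) F), SylIn 2 D ⊤ ∧ g ∈ D ∧
      (∃ u, g ^ 2 = GeneralLinearGroup.scalar (Fin 2) u) ∧ ∀ d ∈ D, ∃ u : Fˣ,
        GeneralLinearGroup.scalar (Fin 2) u ∈ D ∧ (GeneralLinearGroup.det d = u ^ 2 ∨
          GeneralLinearGroup.det d = u ^ 2 * GeneralLinearGroup.det g) := by
  classical
  have := Fintype.ofFinite F
  have h2 := H10.two_ne_zero_of_odd_card hq
  obtain ⟨g, ⟨u, hu, k, hk⟩, hg⟩ : ∃ g : GL (Fin 2) F, (∃ u, g ^ 2 = GeneralLinearGroup.scalar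
      (Fin 2) u ∧ ∃ k, u ^ 2 ^ k = 1) ∧ ¬ IsSquare g.val.det := by
    by_cases h : IsSquare (-1 : F)
    · obtain ⟨c, hc⟩ := FiniteField.exists_nonsquare (F := F) (by
        intro h
        exact h2 (by rw [← Nat.cast_two, ← h]; exact ringChar.Nat.cast_ringChar))
      have hc0 : c ≠ 0 := fun h => hc (h ▸ IsSquare.zero)
      obtain ⟨k, m, hm, e⟩ := Nat.exists_eq_two_pow_mul_odd (n := Nat.card Fˣ) Nat.card_pos.ne'
      have hc' : ¬ IsSquare (-c ^ m) := by
        rw [← quadraticChar_neg_one_iff_not_isSquare] at hc ⊢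
        rw [neg_eq_neg_one_mul, map_mul, map_pow, hc, hm.neg_one_pow,
          (quadraticChar_one_iff_isSquare (by simp)).2 h, one_mul]
      refine ⟨GeneralLinearGroup.mkOfDetNeZero !![0, c ^ m; 1, 0] (by simp [hc0]),
        ⟨Units.mk0 c hc0 ^ m, Units.ext ?_, k, ?_⟩, by simpa using hc'⟩
      · ext i j
        fin_cases i <;> fin_cases j <;> simp [pow_two, diagonal_pow]
      · rw [← pow_mul, mul_comm, ← e, pow_card_eq_one']
    · refine ⟨GeneralLinearGroup.mkOfDetNeZero !![-1, 0; 0, 1] (by simp), ⟨1, Units.ext ?_, 0, one_pow _⟩,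
        by simpa using h⟩
      ext i j
      fin_cases i <;> fin_cases j <;> simp [pow_two]
  have hg2 : g ^ 2 ^ (k + 1) = 1 := by rw [pow_succ', pow_mul, hu, ← map_pow, hk, map_one]
  obtain ⟨D, hD, hle⟩ := SylIn.exists_le (p := 2) (Q := zpowers g) (K := ⊤)
    (IsPGroup.of_card_dvd_pow (n := k + 1) (by
      rw [Nat.card_zpowers]; exact orderOf_dvd_of_pow_eq_one hg2)) le_top
  have key : ∀ d ∈ D, IsSquare d.val.det → ∃ u : Fˣ, GeneralLinearGroup.scalar (Fin 2) u ∈ D ∧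
      GeneralLinearGroup.det d = u ^ 2 := fun d hd ⟨r, hr⟩ => by
    have hr0 : r ≠ 0 := fun h => (GeneralLinearGroup.det d).ne_zero (by
      rw [GeneralLinearGroup.val_det_apply, hr, h, zero_mul])
    have e : GeneralLinearGroup.det d = Units.mk0 r hr0 ^ 2 := Units.ext (by simp [hr, pow_two])
    refine ⟨Units.mk0 r hr0, ?_, e⟩
    obtain ⟨l, hl⟩ := hD.pgrp ⟨d, hd⟩
    obtain ⟨a, -, ha⟩ := hD.exists_conj_mem (mem_top (GeneralLinearGroup.scalar (Fin 2)
      (Units.mk0 r hr0))) (k := l + 1) (by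
        rw [← map_pow, pow_succ', pow_mul, ← e, ← map_pow,
          show d ^ 2 ^ l = 1 from congrArg Subtype.val hl, map_one, map_one])
    have hz : GeneralLinearGroup.scalar (Fin 2) (Units.mk0 r hr0) ∈ center (GL (Fin 2) F) :=
      GeneralLinearGroup.center_eq_range_scalar (n := Fin 2) (R := F) ▸ ⟨_, rfl⟩
    rwa [mem_center_iff.1 hz a, mul_inv_cancel_right] at ha
  refine ⟨D, g, hD, hle (mem_zpowers g), ⟨u, hu⟩, fun d hd => ?_⟩
  by_cases h : IsSquare d.val.det
  · exact (key d hd h).imp fun u hu => ⟨hu.1, Or.inl hu.2⟩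
  · obtain ⟨u, hu, e⟩ := key (d * g⁻¹) (mul_mem hd (inv_mem (hle (mem_zpowers g)))) (by
      have h3 : (d * g⁻¹).val.det * g.val.det = d.val.det := by
        rw [← det_mul, ← Units.val_mul, inv_mul_cancel_right]
      have h4 : (d * g⁻¹).val.det ≠ 0 := (GeneralLinearGroup.det (d * g⁻¹)).ne_zero
      rw [← h3, H66.isSquare_mul_iff_of_not h4 hg] at h
      exact not_not.1 h)
    exact ⟨u, hu, Or.inr (by rw [← e, ← map_mul, inv_mul_cancel_right])⟩

theorem exists_sylow_G2 [Finite F] (hq : Odd (Nat.card F)) :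
    ∃ P, SylIn 2 P (G2 F) ∧ EA 2 P := by
  obtain ⟨D, g, hD, hg, ⟨u, hu⟩, hd⟩ := exists_sylow_GL2' hq
  let S : Subgroup (GL (Fin 2) F × GL (Fin 2) F) := D.prod D ⊓
    (GeneralLinearGroup.det.comp (MonoidHom.fst _ _)).eqLocus
      (GeneralLinearGroup.det.comp (MonoidHom.snd _ _))
  have hS : ∀ x, x ∈ S ↔ x.1 ∈ D ∧ x.2 ∈ D ∧
      GeneralLinearGroup.det x.1 = GeneralLinearGroup.det x.2 := fun x => and_assoc
  have hle : S.map (rho F) ≤ G2 F := by
    rintro _ ⟨x, hx, rfl⟩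
    exact rho_mem hx.2
  have hp : IsPGroup 2 S := by
    rintro ⟨x, hx⟩
    obtain ⟨k, hk⟩ := hD.pgrp ⟨x.1, hx.1.1⟩
    obtain ⟨l, hl⟩ := hD.pgrp ⟨x.2, hx.1.2⟩
    refine ⟨k + l, Subtype.ext (Prod.ext ?_ ?_)⟩
    · change x.1 ^ 2 ^ (k + l) = 1
      rw [pow_add, pow_mul, show x.1 ^ 2 ^ k = 1 from congrArg Subtype.val hk, one_pow]
    · change x.2 ^ 2 ^ (k + l) = 1
      rw [add_comm, pow_add, pow_mul, show x.2 ^ 2 ^ l = 1 from congrArg Subtype.val hl, one_pow]
  have hQ := sylIn_inf_normal hD (slK (Fin 2) F)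
  have hc : Nat.card D * Nat.card (D ⊓ slK (Fin 2) F : Subgroup _) ≤ Nat.card S := by
    rw [← Nat.card_prod]
    refine Nat.card_le_card_of_injective (fun x => ⟨(x.2.1 * x.1.1, x.1.1), (hS _).2
      ⟨mul_mem x.2.2.1 x.1.2, x.1.2, by rw [map_mul, show GeneralLinearGroup.det x.2.1 = 1 from
        x.2.2.2, one_mul]⟩⟩) fun x y h => ?_
    obtain ⟨h1, h3⟩ := Prod.ext_iff.1 (congrArg Subtype.val h)
    simp only at h1 h3
    rw [h3] at h1
    exact Prod.ext (Subtype.ext h3) (Subtype.ext (mul_right_cancel h1))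
  have hK : Nat.card ((rho F).ker.subgroupOf S) ≤ 2 ^ padicValNat 2 (Nat.card F - 1) := by
    obtain ⟨k, hk⟩ := (hp.to_subgroup ((rho F).ker.subgroupOf S)).exists_card_eq
    have h1 : ((rho F).ker.subgroupOf S).map S.subtype ≤
        ((GeneralLinearGroup.scalar (Fin 2)).prod (GeneralLinearGroup.scalar (Fin 2))).range := by
      rintro _ ⟨x, hx, rfl⟩
      obtain ⟨v, hv⟩ := exists_of_rho_eq_one hx
      exact ⟨v, hv.symm⟩
    have h3 := (card_dvd_of_le h1).trans (card_range_dvd _)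
    rw [card_map_of_injective S.subtype_injective, hk, Nat.card_units] at h3
    have h4 : 1 < Nat.card F := Finite.one_lt_card
    rw [hk]
    exact Nat.pow_le_pow_right two_pos ((padicValNat_dvd_iff_le (by omega)).1 h3)
  have hc2 : 2 ^ (2 * padicValNat 2 (Nat.card F ^ 2 - 1)) ≤ Nat.card (S.map (rho F)) := by
    have h1 := card_mul_index ((rho F).ker.subgroupOf S)
    rw [← relIndex, relIndex_ker] at h1
    rw [← h1, sylIn_top_card hD, sylIn_card hQ, ← range_toGL, ← Nat.card_congr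
      (MonoidHom.ofInjective SpecialLinearGroup.toGL_injective).toEquiv, v2_card_SL2 hq,
      v2_card_GL hq] at hc
    refine Nat.le_of_mul_le_mul_left (c := 2 ^ padicValNat 2 (Nat.card F - 1)) ?_ (by positivity)
    refine le_trans (le_of_eq ?_) (hc.trans (Nat.mul_le_mul_right _ hK))
    simp only [Fintype.card_fin, Nat.reduceDiv, Nat.reduceAdd, Nat.factorial_one,
      padicValNat_one_right]
    ring
  obtain ⟨P, hP, hSP⟩ := SylIn.exists_le (hp.map (rho F)) hle
  have e := eq_of_le_of_card_ge hSP ((card_le hq hP.le hP.pgrp).trans hc2)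
  refine ⟨P, hP, e ▸ ?_⟩
  have hQ' := ea_inf_slK_two hq hD
  have h1 : ∀ d ∈ D ⊓ slK (Fin 2) F, rho F (d, 1) ∈ eaCore 2 (S.map (rho F)) := fun d hd =>
    (hQ'.map ((rho F).comp (MonoidHom.inl _ _))).le_eaCore (by
      rintro _ ⟨x, hx, rfl⟩
      exact mem_map_of_mem _ ((hS _).2 ⟨hx.1, one_mem _, hx.2.trans (map_one _).symm⟩))
      (mem_map_of_mem _ hd)
  have h3 : ∀ d ∈ D ⊓ slK (Fin 2) F, rho F (1, d) ∈ eaCore 2 (S.map (rho F)) := fun d hd =>
    (hQ'.map ((rho F).comp (MonoidHom.inr _ _))).le_eaCore (by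
      rintro _ ⟨x, hx, rfl⟩
      exact mem_map_of_mem _ ((hS _).2 ⟨one_mem _, hx.1, (map_one _).trans hx.2.symm⟩))
      (mem_map_of_mem _ hd)
  have h4 : rho F (g, g) ∈ eaCore 2 (S.map (rho F)) :=
    mem_eaCore_of_pow (mem_map_of_mem _ ((hS _).2 ⟨hg, hg, rfl⟩))
      (by rw [← map_pow, Prod.pow_mk, hu, rho_scalar])
  have h5 : ∀ d ∈ D, ∀ v : Fˣ, GeneralLinearGroup.scalar (Fin 2) v ∈ D →
      GeneralLinearGroup.det d = v ^ 2 → rho F (d, d) ∈ eaCore 2 (S.map (rho F)) := by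
    intro d hd v hv e
    have h6 : d * (GeneralLinearGroup.scalar (Fin 2) v)⁻¹ ∈ D ⊓ slK (Fin 2) F :=
      mem_inf.2 ⟨mul_mem hd (inv_mem hv), by
        rw [MonoidHom.mem_ker, map_mul, map_inv, e, mul_inv_eq_one]
        exact Units.ext (by simp)⟩
    have := mul_mem (h1 _ h6) (h3 _ h6)
    rw [← mul_one (_ * _), ← rho_scalar v, ← map_mul, ← map_mul] at this
    simpa using this
  have h7 : S.map (rho F) ≤ eaCore 2 (S.map (rho F)) := by
    rintro _ ⟨⟨a, b⟩, hx, rfl⟩
    obtain ⟨ha, hb, hab⟩ := (hS _).1 hx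
    have h8 : rho F (b, b) ∈ eaCore 2 (S.map (rho F)) := by
      obtain ⟨v, hv, e | e⟩ := hd b hb
      · exact h5 b hb v hv e
      · have := mul_mem (h5 (b * g⁻¹) (mul_mem hb (inv_mem hg)) v hv
          (by rw [map_mul, map_inv, e, mul_inv_cancel_right])) h4
        rw [← map_mul] at this
        simpa using this
    have := mul_mem (h1 (a * b⁻¹) (mem_inf.2 ⟨mul_mem ha (inv_mem hb), by
      rw [MonoidHom.mem_ker, map_mul, map_inv, mul_inv_eq_one]; exact hab⟩)) h8
    rw [← map_mul] at this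
    simpa using this
  rw [le_antisymm h7 (eaCore_le _)]
  exact ea_eaCore _

end H82.Oct
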